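import Mathlib
import Cfsg.Agent.Lib.Ito.PSL2
import Cfsg.Agent.Lib.AbCent.Ext
import Cfsg.Agent.Lib.CIT.AppModel
import Cfsg.Agent.Lib.ClassSz.TwoSizes
import Cfsg.Agent.Lib.Fgs.Camina
import Cfsg.Agent.Lib.Fgs.OrbitSum

/-!
# Minimal centralisers, heads, and simple groups of conjugate type rank three
-/

set_option autoImplicit false

namespace CfsgLib.Ito

open Cfsg Subgroup CfsgLib.Sz CfsgLib.Fgs CfsgLib.ClassSz CfsgLib.CIT

universe u

variable {G : Type u} [Group G] [Finite G]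

theorem ix_pos (x : G) : 0 < ix x := Nat.pos_of_ne_zero index_ne_zero_of_finite

omit [Finite G] in
theorem ix_dvd_of_le {x y : G} (h : centralizer ({x} : Set G) ≤ centralizer {y}) : ix y ∣ ix x :=
  index_dvd_of_le h

omit [Finite G] in
theorem ix_dvd_card (x : G) : ix x ∣ Nat.card G := index_dvd_card _

omit [Finite G] in
theorem cent_one : centralizer ({1} : Set G) = ⊤ := cent_eq_top_iff.2 (one_mem _)

omit [Finite G] in
theorem card_mul_ix (x : G) : Nat.card (centralizer ({x} : Set G)) * ix x = Nat.card G :=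
  card_mul_index _

theorem exists_comm_not_dvd_ix {p : ℕ} (hp : p.Prime) (h : p ∣ Nat.card G) {u : G} {j : ℕ}
    (hu : orderOf u = p ^ j) : ∃ x : G, orderOf x = p ∧ Commute x u ∧ ¬ p ∣ ix x := by
  haveI := Fact.mk hp
  obtain ⟨P, hP⟩ := exists_sylow_mem ⟨j, hu⟩
  obtain ⟨x, -, hx, h1, h2⟩ := exists_mem_normal_sylow_le_cent ⊤ (by rwa [card_top]) P
  obtain ⟨k, hk⟩ := orderOf_eq_pow_of_mem_isPGroup P.isPGroup' hx
  have hk0 : k ≠ 0 := by rintro rfl; exact h1 (orderOf_eq_one_iff.1 hk)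
  exact ⟨x ^ (orderOf x / p), orderOf_pow_orderOf_div (orderOf_pos x).ne' (hk ▸ dvd_pow_self p hk0),
    (mem_cent_iff.1 (h2 hP)).pow_left _,
    not_dvd_index_of_sylow_le P (h2.trans (cent_le_cent_pow _ _))⟩

theorem exists_not_dvd_ix {p : ℕ} (hp : p.Prime) (h : p ∣ Nat.card G) :
    ∃ x : G, orderOf x = p ∧ ¬ p ∣ ix x :=
  (exists_comm_not_dvd_ix hp h (j := 0) orderOf_one).imp fun _ h => ⟨h.1, h.2.2⟩

omit [Finite G] in
theorem ne_one_of_prime {x : G} {p : ℕ} (hp : p.Prime) (h : orderOf x = p) : x ≠ 1 := fun e =>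
  hp.one_lt.ne (by rw [← h, e, orderOf_one])

omit [Finite G] in
theorem card_cent_dvd_of_ix_dvd [Finite G] {x y : G} (h : ix x ∣ ix y) :
    Nat.card (centralizer ({y} : Set G)) ∣ Nat.card (centralizer ({x} : Set G)) := by
  obtain ⟨k, hk⟩ := h
  refine ⟨k, Nat.eq_of_mul_eq_mul_right (ix_pos x) ?_⟩
  rw [card_mul_ix, ← card_mul_ix y, hk]; ring

theorem exists_ne_one_not_dvd_ix [Nontrivial G] {p : ℕ} (hp : p.Prime) :
    ∃ x : G, x ≠ 1 ∧ ¬ p ∣ ix x := by
  by_cases h : p ∣ Nat.card G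
  · obtain ⟨x, h1, h2⟩ := exists_not_dvd_ix hp h
    exact ⟨x, fun e => hp.one_lt.ne (by rw [← h1, e, orderOf_one]), h2⟩
  · obtain ⟨x, hx⟩ := exists_ne (1 : G)
    exact ⟨x, hx, fun e => h (e.trans (index_dvd_card _))⟩

/-- An element outside a subgroup has a primary part outside the subgroup. -/
theorem exists_primary_not_mem (K : Subgroup G) (n : ℕ) : ∀ g : G, orderOf g = n → g ∉ K →
    ∃ a ∈ zpowers g, a ∉ K ∧ ∃ p k : ℕ, p.Prime ∧ orderOf a = p ^ k := by
  induction n using Nat.strong_induction_on with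
  | _ n ih =>
  intro g hn hg
  have h1 : orderOf g ≠ 1 := fun e => hg (orderOf_eq_one_iff.1 e ▸ one_mem K)
  obtain ⟨p, hp, hd⟩ := Nat.exists_prime_and_dvd h1
  haveI := Fact.mk hp
  obtain ⟨a, b, ha, hb, hab, -, ⟨k, hk⟩, hb'⟩ := exists_p_part p g
  by_cases haK : a ∈ K
  · have h2 : orderOf b < n := hn ▸ lt_of_le_of_ne
      (Nat.le_of_dvd (orderOf_pos g) (orderOf_dvd_of_mem_zpowers hb)) fun e => hb' (e ▸ hd)
    obtain ⟨c, hc, h3⟩ := ih _ h2 b rfl fun h => hg (hab ▸ mul_mem haK h)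
    exact ⟨c, zpowers_le.2 hb hc, h3⟩
  · exact ⟨a, ha, haK, p, k, hp, hk⟩

theorem le_of_primary {H K : Subgroup G}
    (h : ∀ a ∈ H, ∀ p k : ℕ, p.Prime → orderOf a = p ^ k → a ∈ K) : H ≤ K := fun g hg => by
  by_contra hK
  obtain ⟨a, ha, h1, p, k, hp, hk⟩ := exists_primary_not_mem K _ g rfl hK
  exact h1 (h a (zpowers_le.2 hg ha) p k hp hk)

theorem exists_prime_pow_ne_one {x : G} (hx : x ≠ 1) : ∃ k, (orderOf (x ^ k)).Prime := by
  obtain ⟨p, hp, hd⟩ := Nat.exists_prime_and_dvd (mt orderOf_eq_one_iff.1 hx)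
  exact ⟨orderOf x / p, by rwa [orderOf_pow_orderOf_div (orderOf_pos x).ne' hd]⟩

/-- `C(x)` is minimal among the centralisers of elements. -/
def MinC (x : G) : Prop :=
  ∀ y : G, centralizer ({y} : Set G) ≤ centralizer {x} → centralizer ({y} : Set G) = centralizer {x}

theorem minC_of_max {x : G} (h : ∀ y : G, ix x ∣ ix y → ix y = ix x) : MinC x := fun y hy =>
  cent_eq_of_le_of_index_eq hy (h y (ix_dvd_of_le hy))

omit [Finite G] in
theorem MinC.congr {x y : G} (h : MinC x) (e : centralizer ({x} : Set G) = centralizer {y}) :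
    MinC y := fun z hz => (h z (e ▸ hz)).trans e

theorem MinC.le_of_coprime {x u : G} (h : MinC x) (hu : u ∈ centralizer ({x} : Set G))
    (hc : (orderOf x).Coprime (orderOf u)) : centralizer ({x} : Set G) ≤ centralizer {u} := by
  have h1 := cent_mul_of_coprime (mem_cent_iff.1 hu) hc
  rw [← h _ (h1.le.trans inf_le_left), h1]
  exact inf_le_right

theorem MinC.comm {x z : G} (h : MinC x) (e : centralizer ({x} : Set G) = centralizer {z})
    (hc : (orderOf x).Coprime (orderOf z)) {a : G} (ha : a ∈ centralizer ({x} : Set G)) :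
    centralizer ({x} : Set G) ≤ centralizer {a} := by
  have : centralizer ({x} : Set G) ≤ centralizer (centralizer ({x} : Set G) : Set G) := by
    refine le_of_primary fun u hu p k hp hk b hb => ?_
    by_cases hd : p ∣ orderOf x
    · have h1 := (h.congr e).le_of_coprime (e ▸ hu) (hk ▸ Nat.Coprime.pow_right k
        (Nat.Coprime.coprime_dvd_left hd hc).symm)
      exact (mem_cent_iff.1 (h1 (e ▸ hb))).symm
    · exact (mem_cent_iff.1 (h.le_of_coprime hu (hk ▸ Nat.Coprime.pow_right k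
        (hp.coprime_iff_not_dvd.2 hd).symm) hb)).symm
  exact fun b hb => mem_cent_iff.2 (this hb a ha)

/-- A centraliser that is both minimal and maximal is abelian or a `p`-group. -/
theorem MinC.selfCent_or {x : G} (hx : x ≠ 1) (h : MinC x)
    (h' : ∀ y, y ≠ 1 → centralizer ({x} : Set G) ≤ centralizer {y} →
      centralizer ({x} : Set G) = centralizer {y}) :
    SelfCent (centralizer ({x} : Set G)) ∨
      ∃ p : ℕ, p.Prime ∧ IsPGroup p (centralizer ({x} : Set G)) := by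
  obtain ⟨k, hp⟩ := exists_prime_pow_ne_one hx
  have h0 : ∀ {u : G}, (orderOf u).Prime → u ≠ 1 := fun hu e => by
    rw [e, orderOf_one] at hu; exact Nat.not_prime_one hu
  have e := h' _ (h0 hp) (cent_le_cent_pow x k)
  refine or_iff_not_imp_right.2 fun hn => ⟨fun e => hx (mem_bot.1 (e ▸ self_mem_cent x)), ?_⟩
  obtain ⟨q, hq, hd, hqp⟩ : ∃ q : ℕ, q.Prime ∧ q ∣ Nat.card (centralizer ({x} : Set G)) ∧
      q ≠ orderOf (x ^ k) := by
    by_contra hc
    push Not at hc
    exact hn ⟨_, hp, IsPGroup.of_card (Nat.eq_prime_pow_of_unique_prime_dvd Nat.card_pos.ne'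
      fun h1 h2 => hc _ h1 h2)⟩
  haveI := Fact.mk hq
  obtain ⟨⟨u, hu⟩, ho⟩ := exists_prime_orderOf_dvd_card' q hd
  rw [orderOf_mk] at ho
  have hc : (orderOf (x ^ k)).Coprime (orderOf u) := ho ▸ (Nat.coprime_primes hp hq).2 hqp.symm
  have h1 := h' u (h0 (ho ▸ hq)) (e ▸ (h.congr e).le_of_coprime (e ▸ hu) hc)
  intro a ha ha1
  exact (h' a ha1 (e ▸ (h.congr e).comm (e.symm.trans h1) hc (e ▸ ha))).symm

section Simple

variable [IsSimpleGroup G] (hG : ¬ IsMulCommutative G)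
include hG

theorem mem_sizes {m : ℕ} : m ∈ sizes G ↔ ∃ x : G, x ≠ 1 ∧ ix x = m := by
  simp only [sizes, center_eq_bot_of_simple hG, mem_bot, Set.mem_setOf_eq, eq_comm]

theorem ix_ne_one {x : G} (hx : x ≠ 1) : ix x ≠ 1 := fun h =>
  hx (mem_bot.1 (center_eq_bot_of_simple hG ▸ index_cent_eq_one_iff.1 h))

theorem l2even_of_ac (h : AbCent.AC G) : IsoL2Even G := by
  obtain ⟨F, _, _, hF, h4, ⟨e⟩⟩ := (h.hyp_of_not_solvable (App.not_isSolvable_of_simple hG)).exists_iso
  have : Unique (center G) := by rw [center_eq_bot_of_simple hG]; infer_instance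
  exact ⟨F, _, _, hF, h4, ⟨e.trans (MulEquiv.prodUnique.trans (SL2.pmEquiv CharTwo.two_eq_zero))⟩⟩

/-- A simple group without proper inclusions between centralisers. -/
theorem l2even_of_fgroup (h : ∀ x y : G, y ≠ 1 → centralizer ({x} : Set G) ≤ centralizer {y} →
    centralizer ({x} : Set G) = centralizer {y}) : IsoL2Even G := by
  refine l2even_of_ac hG fun t ht a b ha hb => ?_
  have ht1 : t ≠ 1 := by rintro rfl; simp at ht
  have ht2 : t ^ 2 = 1 := ht ▸ pow_orderOf_eq_one t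
  have h1 : ∀ y, Commute y t → ¬ centralizer ({t} : Set G) ≤ centralizer {y} → y ^ 2 = 1 := by
    intro y hy hn
    by_contra h2
    have h3 : (t * y) ^ 2 = y ^ 2 := by rw [hy.symm.mul_pow, ht2, one_mul]
    have h4 := h _ _ h2 (cent_le_cent_pow y 2)
    have h5 := h _ _ h2 (h3 ▸ cent_le_cent_pow (t * y) 2)
    refine hn (h y t ht1 fun g hg => mem_cent_iff.2 ?_).ge
    have h6 := mem_cent_iff.1 (h5.ge (h4.le hg))
    simpa using h6.mul_left (mem_cent_iff.1 hg).inv_left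
  by_contra hab
  have h2 := h1 a ha fun h => hab (mem_cent_iff.1 (h (mem_cent_iff.2 hb.symm)))
  have h3 := h1 b hb fun h => hab (mem_cent_iff.1 (h (mem_cent_iff.2 ha.symm))).symm
  by_cases h4 : centralizer ({t} : Set G) ≤ centralizer {a * b}
  · have h5 := mem_cent_iff.1 (h4 (mem_cent_iff.2 ha.symm))
    exact hab (mul_left_cancel (a := a) (by rw [← h5.eq, mul_assoc]))
  · have h5 := h1 _ (ha.mul_left hb) h4
    rw [sq] at h2 h3 h5
    refine hab ?_
    calc a * b = a * (a * b * (a * b)) * b := by rw [h5, mul_one]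
      _ = (a * a) * b * a * (b * b) := by group
      _ = b * a := by rw [h2, h3]; group

/-- A free class size `c` next to a class size `d` missing all primes that `c` has. -/
theorem false_of_free {x y : G} (hx : x ≠ 1) (hy : y ≠ 1)
    (h1 : MinC x) (h2 : ∀ z : G, z ≠ 1 → ix z ∣ ix x → ix z = ix x)
    (hc : (ix x).Coprime (ix y)) : False := by
  have hd : ix y ∣ Nat.card (centralizer ({x} : Set G)) :=
    hc.symm.dvd_of_dvd_mul_right ((card_mul_ix x).symm ▸ index_dvd_card _)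
  rcases h1.selfCent_or hx fun z hz h =>
    cent_eq_of_le_of_index_eq h (h2 z hz (ix_dvd_of_le h)).symm with h | ⟨p, hp, h⟩
  · exact free_lemma hG h hy hd
  · haveI := Fact.mk hp
    obtain ⟨k, hk⟩ := h.exists_card_eq
    obtain ⟨j, -, hj⟩ := (Nat.dvd_prime_pow hp).1 (hk ▸ hd)
    exact not_isPrimePow_ix hG hy hp hj

omit [IsSimpleGroup G] hG in
theorem coprime_of_heads [Nontrivial G] {a b : ℕ} (h : ∀ z : G, z ≠ 1 → a ∣ ix z ∨ b ∣ ix z) :
    a.Coprime b := Nat.coprime_of_dvd fun p hp h1 h2 => by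
  obtain ⟨z, hz, h3⟩ := exists_ne_one_not_dvd_ix (G := G) hp
  exact h3 ((h z hz).elim h1.trans h2.trans)

/-- Elements with coprime class sizes do not commute. -/
theorem not_commute_of_coprime {x y : G} (hx : x ≠ 1) (hy : y ≠ 1) (hc : (ix x).Coprime (ix y)) :
    ¬ Commute x y := fun h => by
  have h1 : normalClosure ({x} : Set G) ≤ centralizer {y} := by
    refine (closure_le _).2 fun a ha => ?_
    obtain ⟨b, hb0, hb⟩ := Group.mem_conjugatesOfSet_iff.1 ha
    obtain ⟨g, rfl⟩ := isConj_iff.1 (show IsConj x a from hb0 ▸ hb)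
    obtain ⟨u, hu, v, hv, rfl⟩ := exists_mul_of_coprime_index hc g
    have h2 : v * x * v⁻¹ = x := mul_inv_eq_iff_eq_mul.2 (mem_cent_iff.1 hv).symm
    have : u * v * x * (u * v)⁻¹ = u * (v * x * v⁻¹) * u⁻¹ := by group
    rw [this, h2, SetLike.mem_coe]
    exact mul_mem (mul_mem hu (mem_cent_iff.2 h.symm)) (inv_mem hu)
  rcases (normalClosure_normal (s := ({x} : Set G))).eq_bot_or_eq_top with h2 | h2
  · exact hx (mem_bot.1 (h2 ▸ subset_normalClosure rfl))
  · exact ix_ne_one hG hy (index_eq_one.2 (top_le_iff.1 (h2 ▸ h1)))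

theorem false_of_three {a b c : ℕ} (hs : ∀ z : G, z ≠ 1 → ix z = a ∨ ix z = b ∨ ix z = c)
    (hac : a ∣ c) (hne : a ≠ c) {y w : G} (hy : y ≠ 1) (hya : ix y = a) (hw : w ≠ 1) (hwb : ix w = b)
    (hbc : b ≠ c) : False := by
  have hab : a.Coprime b := coprime_of_heads (G := G) fun z hz => by
    rcases hs z hz with h | h | h
    exacts [Or.inl h.symm.dvd, Or.inr h.symm.dvd, Or.inl (h ▸ hac)]
  have ha1 : a ≠ 1 := hya ▸ ix_ne_one hG hy
  have hb1 : b ≠ 1 := hwb ▸ ix_ne_one hG hw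
  have hmin : ∀ z : G, z ≠ 1 → ix z ∣ b → ix z = b := fun z hz h => by
    rcases hs z hz with e | e | e
    · exact absurd (Nat.eq_one_of_dvd_coprimes hab dvd_rfl (e ▸ h)) ha1
    · exact e
    · exact absurd (Nat.eq_one_of_dvd_coprimes hab dvd_rfl (hac.trans (e ▸ h))) ha1
  have hne1 : ∀ {z : G} {m : ℕ}, m ≠ 1 → m ∣ ix z → z ≠ 1 := fun h1 h2 e =>
    h1 (Nat.dvd_one.1 (by rwa [e, ix, index_cent_eq_one_iff.2 (one_mem _)] at h2))
  by_cases hb : b ∣ c
  swap
  · refine false_of_free hG hw hy (minC_of_max fun z hz => ?_) (hwb ▸ hmin) (hya ▸ hwb ▸ hab.symm)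
    rw [hwb] at hz ⊢
    rcases hs z (hne1 hb1 hz) with e | e | e
    · exact absurd (Nat.eq_one_of_dvd_coprimes hab (e ▸ hz) dvd_rfl) hb1
    · exact e
    · exact absurd (e ▸ hz) hb
  obtain ⟨p, hp, hpb⟩ := Nat.exists_prime_and_dvd hb1
  obtain ⟨q, hq, hqa⟩ := Nat.exists_prime_and_dvd ha1
  have hqG : q ∣ Nat.card G := hqa.trans (hya ▸ ix_dvd_card y)
  obtain ⟨y, hyp, hy'⟩ := exists_not_dvd_ix hp (hpb.trans (hwb ▸ ix_dvd_card w))
  have hy := ne_one_of_prime hp hyp
  have hya : ix y = a := by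
    rcases hs y hy with e | e | e
    exacts [e, absurd (e ▸ hpb) hy', absurd (e ▸ hpb.trans hb) hy']
  have hqb : ∀ z : G, z ≠ 1 → ¬ q ∣ ix z → ix z = b := fun z hz h => by
    rcases hs z hz with e | e | e
    exacts [absurd (e ▸ hqa) h, e, absurd (e ▸ hqa.trans hac) h]
  have hT : ∀ {u v : G}, ix u = a → ix v = b → ¬ Commute u v := fun hu hv =>
    not_commute_of_coprime hG (hne1 ha1 hu.symm.dvd) (hne1 hb1 hv.symm.dvd) (hu ▸ hv ▸ hab)
  have hqy : ¬ q ∣ Nat.card (centralizer ({y} : Set G)) := fun h => by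
    haveI := Fact.mk hq
    obtain ⟨⟨u, hu⟩, ho⟩ := exists_prime_orderOf_dvd_card' q h
    rw [orderOf_mk] at ho
    obtain ⟨z, hz, hzu, hz'⟩ := exists_comm_not_dvd_ix hq hqG (ho.trans (pow_one q).symm)
    have hzb := hqb z (ne_one_of_prime hq hz) hz'
    rcases hs u (ne_one_of_prime hq ho) with e | e | e
    · exact hT e hzb hzu.symm
    · exact hT hya e (mem_cent_iff.1 hu)
    · have hu' : MinC u := minC_of_max fun v hv => by
        rw [e] at hv ⊢
        rcases hs v (hne1 ha1 (hac.trans hv)) with e' | e' | e'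
        · exact absurd (Nat.dvd_antisymm hac (e' ▸ hv)) hne
        · exact absurd (Nat.dvd_antisymm hb (e' ▸ hv)) hbc
        · exact e'
      have h1 := hu'.le_of_coprime (mem_cent_iff.2 (mem_cent_iff.1 hu).symm) (by
        rw [ho, hyp]
        exact (hab.coprime_dvd_left hqa).coprime_dvd_right hpb)
      exact hT hya hzb (mem_cent_iff.1 (h1 (mem_cent_iff.2 hzu.symm)))
  obtain ⟨w, hwq, hw'⟩ := exists_not_dvd_ix hq hqG
  have hw := ne_one_of_prime hq hwq
  have hwb := hqb w hw hw'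
  refine false_of_free hG hw hy (fun v hv => cent_eq_of_le_of_index_eq hv ?_) (hwb ▸ hmin)
    (hya ▸ hwb ▸ hab.symm)
  have hvw := mem_cent_iff.1 (hv (self_mem_cent v))
  rcases hs v (hne1 hb1 (hwb ▸ ix_dvd_of_le hv)) with e | e | e
  · exact absurd hvw.symm (hT e hwb)
  · exact e.trans hwb.symm
  · refine absurd ?_ hqy
    refine (hwq ▸ orderOf_dvd_natCard _ (mem_cent_iff.2 hvw.symm)).trans
      (card_cent_dvd_of_ix_dvd ?_)
    rw [hya, e]; exact hac

theorem l2even_of_rank_le_three (h : (sizes G).ncard ≤ 3) : IsoL2Even G := by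
  refine l2even_of_fgroup hG fun x y hy hxy => ?_
  by_contra hne
  have h1 : ix y ≠ ix x := fun e => hne (cent_eq_of_le_of_index_eq hxy e.symm)
  have hx : x ≠ 1 := by
    rintro rfl
    exact hne (le_antisymm hxy (cent_one (G := G) ▸ le_top))
  by_cases h2 : ∀ z : G, z ≠ 1 → ix z = ix y ∨ ix z = ix x
  · exact absurd ((coprime_of_heads (G := G) (a := ix y) (b := ix y) fun z hz =>
      Or.inl ((h2 z hz).elim (fun e => e.symm.dvd) fun e => e ▸ ix_dvd_of_le hxy)).eq_one_of_dvd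
        dvd_rfl) (ix_ne_one hG hy)
  push Not at h2
  obtain ⟨w, hw, h3, h4⟩ := h2
  have h5 : ({ix y, ix w, ix x} : Set ℕ) = sizes G :=
    Set.eq_of_subset_of_ncard_le (by
      rintro _ (rfl | rfl | rfl) <;> exact (mem_sizes hG).2 ⟨_, ‹_›, rfl⟩)
      (h.trans (Set.ncard_eq_three.2 ⟨_, _, _, h3.symm, h1, h4, rfl⟩).ge) finite_sizes
  exact false_of_three hG (fun z hz => (h5.ge ((mem_sizes hG).2 ⟨z, hz, rfl⟩) :))
    (ix_dvd_of_le hxy) h1 hy rfl hw rfl h4

end Simple

end CfsgLib.Ito
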