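import Mathlib
import Cfsg.Agent.Lib.Ito.Basic
import Cfsg.Agent.Lib.Tech.SylowIn
import Cfsg.Agent.Lib.Fgs.Kegel
import Cfsg.Agent.Lib.Transfer.NormalComplement

/-!
# A normal subgroup with central `p'`-part on which the outer elements act without fixed points
-/

set_option autoImplicit false

namespace CfsgLib.Ito

open Cfsg Subgroup CfsgLib.Fgs CfsgLib.ClassSz CfsgLib.Tech
open scoped commutatorElement

universe u

variable {X : Type u} [Group X] [Finite X]

theorem coprime_of_pelt {t : ℕ} (ht : t.Prime) {a b : X} (ha : ∃ k, orderOf a = t ^ k)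
    (hb : ¬ t ∣ orderOf b) : (orderOf a).Coprime (orderOf b) := by
  obtain ⟨k, hk⟩ := ha
  exact hk ▸ Nat.Coprime.pow_left k (ht.coprime_iff_not_dvd.2 hb)

omit [Finite X] in
theorem not_dvd_of_pelt {t s : ℕ} (ht : t.Prime) (hs : s.Prime) (h : s ≠ t) {a : X}
    (ha : ∃ k, orderOf a = t ^ k) : ¬ s ∣ orderOf a := fun hd => by
  obtain ⟨k, hk⟩ := ha
  exact h ((Nat.prime_dvd_prime_iff_eq hs ht).1 (hs.dvd_of_dvd_pow (hk ▸ hd)))

omit [Finite X] in
theorem pelt_of_dvd {t : ℕ} (ht : t.Prime) {Y : Type*} [Group Y] {a : X} {b : Y}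
    (ha : ∃ k, orderOf a = t ^ k) (h : orderOf b ∣ orderOf a) : ∃ k, orderOf b = t ^ k := by
  obtain ⟨k, hk⟩ := ha
  obtain ⟨j, -, hj⟩ := (Nat.dvd_prime_pow ht).1 (hk ▸ h)
  exact ⟨j, hj⟩

theorem mem_of_pow_mem_of_coprime {K : Subgroup X} {a : X} {m : ℕ} (h : a ^ m ∈ K)
    (hc : (orderOf a).Coprime m) : a ∈ K := by
  obtain ⟨j, hj⟩ := exists_pow_eq_self_of_coprime hc.symm
  exact hj ▸ pow_mem h j

theorem commute_of_comm_mem_center {g v : X} (h : ⁅g, v⁆ ∈ center X) {V : Subgroup X}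
    (hv : ⁅g, v⁆ ∈ V) (hc : (orderOf g).Coprime (Nat.card V)) : Commute g v :=
  BGI.commute_of_commute_commutator (mem_center_iff.1 h g)
    (hc.coprime_dvd_right (V.orderOf_dvd_natCard hv))

omit [Finite X] in
theorem comm_mem_of_normalizer {V : Subgroup X} {g v : X} (hg : g ∈ normalizer (V : Set X))
    (hv : v ∈ V) : ⁅g, v⁆ ∈ V :=
  mul_mem (conj_mem_of_mem_normalizer hg hv) (inv_mem hv)

/-- The local configuration. -/
structure Loc (p : ℕ) (Z D : Subgroup X) : Prop where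
  prime : p.Prime
  normal : D.Normal
  zc : Z ≤ center X
  zd : Z ≤ D
  cen : ∀ u ∈ D, ¬ p ∣ orderOf u → ∀ d ∈ D, Commute u d
  fpf : ∀ g, g ∉ D → ∀ v ∈ D, ¬ p ∣ orderOf v → Commute g v → v ∈ Z

theorem mem_map_pCore_of_comm {t : ℕ} [Fact t.Prime] {D : Subgroup X} {u : X} (hu : u ∈ D)
    (hc : ∀ d ∈ D, Commute u d) (ht : ∃ k, orderOf u = t ^ k) : u ∈ (pCore t D).map D.subtype :=
  Core.le_map_pCore (zpowers_le.2 hu) (fun d hd => centralizer_le_normalizer _ (by
    rintro _ ⟨k, rfl⟩; exact (hc d hd).zpow_left k)) (isPGroup_zpowers_iff.2 ht) (mem_zpowers u)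

namespace Loc

variable {p : ℕ} {Z D : Subgroup X} (h : Loc p Z D)
include h

theorem lemW {t : ℕ} (ht : t.Prime) (htp : t ≠ p) {v : X} (hv : v ∈ D) (hvZ : v ∉ Z)
    (hvt : ∃ k, orderOf v = t ^ k) {y g : X} (hy : y ∉ D) (hyt : ∃ k, orderOf y = t ^ k)
    (hg : g ∉ D) (hgt : ¬ t ∣ orderOf g) : ¬ Commute g y := fun hc => by
  haveI := Fact.mk ht
  haveI := h.normal
  haveI := Core.normal_of_le_center h.zc
  haveI := Core.map_pCore_normal (p := t) D
  set V := (pCore t D).map D.subtype with hV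
  have hVp : IsPGroup t V := Core.isPGroup_map_pCore D
  have hVD : V ≤ D := map_subtype_le _
  have hp : ∀ w ∈ V, ¬ p ∣ orderOf w := fun w hw =>
    not_dvd_of_pelt ht h.prime htp.symm (orderOf_eq_pow_of_mem_isPGroup hVp hw)
  obtain ⟨w, hw, hwZ, h1, -⟩ := exists_second_center_rel (Z := Z) (D := V)
    (hVp.to_sup_of_normal_left (isPGroup_zpowers_iff.2 hyt)) le_sup_left le_normalizer_of_normal
    fun hle => hvZ (hle (mem_map_pCore_of_comm hv
      (h.cen v hv (not_dvd_of_pelt ht h.prime htp.symm hvt)) hvt))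
  have h2 := mem_center_iff.1 (h.zc (h1 y (mem_sup_right (mem_zpowers y))))
  have h3 : ⁅g, w⁆ ∈ V := comm_mem_of_normalizer (le_normalizer_of_normal (K := ⊤) trivial) hw
  have h4 : Commute y ⁅g, w⁆ := by
    have e1 : y * w * y⁻¹ = ⁅y, w⁆ * w := by rw [commutatorElement_def]; group
    have e2 : y * ⁅g, w⁆ * y⁻¹ = g * (y * w * y⁻¹) * g⁻¹ * (y * w * y⁻¹)⁻¹ := by
      have : y * g = g * y := hc.symm.eq
      calc y * ⁅g, w⁆ * y⁻¹ = (y * g) * w * (y * g)⁻¹ * (y * w * y⁻¹)⁻¹ := by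
            rw [commutatorElement_def]; group
        _ = _ := by rw [this]; group
    rw [e1, ← mul_assoc g, h2 g] at e2
    refine mul_inv_eq_iff_eq_mul.1 (e2.trans ?_)
    calc ⁅y, w⁆ * g * w * g⁻¹ * (⁅y, w⁆ * w)⁻¹ = ⁅y, w⁆ * ⁅g, w⁆ * ⁅y, w⁆⁻¹ := by
          rw [commutatorElement_def g]; group
      _ = _ := by rw [← h2, mul_inv_cancel_right]
  obtain ⟨k, hk⟩ := hVp.exists_card_eq
  exact hwZ (h.fpf g hg w (hVD hw) (hp w hw) (commute_of_comm_mem_center
    (h.zc (h.fpf y hy _ (hVD h3) (hp _ h3) h4)) h3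
    (hk ▸ Nat.Coprime.pow_right k (ht.coprime_iff_not_dvd.2 hgt).symm)))

theorem mem_sup_pCore {u : X} (hu : u ∉ D) {d : X} (hd : d ∈ D) (hc : d ∈ zpowers u) :
    d ∈ Z ⊔ pCore p X := by
  haveI := Fact.mk h.prime
  haveI := h.normal
  obtain ⟨a, b, ha, hb, rfl, hab, hap, hbp⟩ := exists_p_part p d
  have hbZ : b ∈ Z := h.fpf u hu b (zpowers_le.2 hd hb) hbp (by
    obtain ⟨k, rfl⟩ := zpowers_le.2 hc hb; exact (Commute.refl u).zpow_right k)
  rw [hab.eq]
  refine mul_mem_sup hbZ ?_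
  have h1 : IsPGroup p (D ⧸ center D) := by
    intro x
    obtain ⟨x, rfl⟩ := QuotientGroup.mk_surjective x
    obtain ⟨a, b, -, -, rfl, hab, ⟨k, hk⟩, hb⟩ := exists_p_part p x
    refine ⟨k, ?_⟩
    rw [← QuotientGroup.mk_pow, hab.mul_pow, ← hk, pow_orderOf_eq_one, one_mul,
      QuotientGroup.eq_one_iff]
    exact pow_mem (show b ∈ center D from mem_center_iff.2 fun g => Subtype.ext
      (h.cen b b.2 (by rwa [orderOf_coe]) g g.2).symm) _
  haveI := h1.isNilpotent
  have h2 : Group.IsNilpotent D := of_quotient_center_nilpotent this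
  exact Core.le_pCore_of_le_fittingSubgroup (zpowers_le.2 (Core.le_fittingSubgroup (N := D) h2
    (zpowers_le.2 hd ha))) (isPGroup_zpowers_iff.2 hap) (mem_zpowers a)

theorem lemK {s l : ℕ} (hs : s.Prime) (hsp : s ≠ p) (hl : l.Prime) {v : X} (hv : v ∈ D) (hvZ : v ∉ Z)
    (hvs : ∃ k, orderOf v = s ^ k) {T : Subgroup X} (hT : (Nat.card T).Coprime s) {y : X}
    (hy : y ∈ normalizer (T : Set X)) (h1 : ∀ r ∈ T, r * y ∉ D ∧ (r * y) ^ l ∈ D) : T ≤ D := by
  haveI := Fact.mk hs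
  haveI := Fact.mk h.prime
  haveI := h.normal
  haveI := Core.normal_of_le_center h.zc
  haveI := Core.map_pCore_normal (p := s) D
  haveI := Core.pCore_characteristic p X
  set V := (pCore s D).map D.subtype with hV
  have hVp : IsPGroup s V := Core.isPGroup_map_pCore D
  have hVD : V ≤ D := map_subtype_le _
  have hp : ∀ w ∈ V, ¬ p ∣ orderOf w := fun w hw =>
    not_dvd_of_pelt hs h.prime hsp.symm (orderOf_eq_pow_of_mem_isPGroup hVp hw)
  haveI : IsMulCommutative V := ⟨⟨fun a b => Subtype.ext (h.cen a (hVD a.2) (hp a a.2) b (hVD b.2))⟩⟩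
  have hvV : v ∈ V := mem_map_pCore_of_comm hv
    (h.cen v hv (not_dvd_of_pelt hs h.prime hsp.symm hvs)) hvs
  obtain ⟨k, hk⟩ := hVp.exists_card_eq
  have hc : (Nat.card T).Coprime (Nat.card V) := hk ▸ hT.pow_right k
  set f := QuotientGroup.mk' (Z ⊔ pCore p X) with hf
  haveI : (V.map f).Normal := Normal.map inferInstance _ (QuotientGroup.mk'_surjective _)
  have h2 := kegel_centralizes hl (V.map f) (T.map f) (y := f y)
    (le_normalizer_map f (mem_map_of_mem f hy))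
    ((hc.coprime_dvd_left (card_map_dvd _ _)).coprime_dvd_right (card_map_dvd _ _)) (by
      rintro _ ⟨w, hw, rfl⟩ _ ⟨r, hr, rfl⟩
      rw [← map_mul, ← map_mul, ← map_pow, QuotientGroup.mk'_apply, QuotientGroup.eq_one_iff]
      have e : ((w * r * y : X) : X ⧸ D) = (r * y : X) := by
        rw [mul_assoc, QuotientGroup.mk_mul, (QuotientGroup.eq_one_iff w).2 (hVD hw), one_mul]
      refine h.mem_sup_pCore (u := w * r * y) (fun e' => (h1 r hr).1 ?_) ?_ (npow_mem_zpowers _ _)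
      · rw [← QuotientGroup.eq_one_iff] at e' ⊢
        rw [← e, e']
      · rw [← QuotientGroup.eq_one_iff, QuotientGroup.mk_pow, e, ← QuotientGroup.mk_pow,
          QuotientGroup.eq_one_iff]
        exact (h1 r hr).2)
  intro r hr
  by_contra hrD
  have h3 : ⁅r, v⁆ ∈ V := comm_mem_of_normalizer (le_normalizer_of_normal (K := ⊤) trivial) hvV
  have h4 : ⁅r, v⁆ ∈ Z ⊔ pCore p X := by
    rw [← QuotientGroup.eq_one_iff, ← QuotientGroup.mk'_apply, map_commutatorElement,
      commutatorElement_eq_one_iff_mul_comm]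
    exact (h2 (mem_map_of_mem f hr) _ (mem_map_of_mem f hvV)).symm
  obtain ⟨z, hz, a, ha, e⟩ := (Core.mem_sup_of_le_normalizer_left le_normalizer_of_normal).1 h4
  obtain ⟨j, hj⟩ := isPGroup_iff_mem.1 (Core.isPGroup_pCore p X) a ha
  have h5 : ⁅r, v⁆ ∈ Z := mem_of_pow_mem_of_coprime (m := p ^ j) (by
    rw [← e, (Commute.mul_pow (mem_center_iff.1 (h.zc hz) a).symm), hj, mul_one]
    exact pow_mem hz _) (Nat.Coprime.pow_right j (h.prime.coprime_iff_not_dvd.2 (hp _ h3)).symm)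
  exact hvZ (h.fpf r hrD v hv (hp v hvV) (commute_of_comm_mem_center (h.zc h5) h3
    (hc.coprime_dvd_left (T.orderOf_dvd_natCard hr))))

theorem normalizer_le {t s : ℕ} [ht : Fact t.Prime] (htp : t ≠ p) (hs : s.Prime) (hsp : s ≠ p)
    (hst : s ≠ t) {v w : X} (hv : v ∈ D) (hvZ : v ∉ Z) (hvt : ∃ k, orderOf v = t ^ k)
    (hw : w ∈ D) (hwZ : w ∉ Z) (hws : ∃ k, orderOf w = s ^ k) (T : Sylow t X)
    (hT : ¬ (T : Subgroup X) ≤ D) : normalizer ((T : Subgroup X) : Set X) ≤ (T : Subgroup X) ⊔ D := by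
  haveI := h.normal
  refine le_of_primary fun a ha l i hl hi => ?_
  by_cases hlt : l = t
  · subst hlt
    exact mem_sup_left ((IsSylowIn.of_sylow_top T).le_of_normalizes (isPGroup_zpowers_iff.2 ⟨i, hi⟩)
      le_top (zpowers_le.2 ha) (mem_zpowers a))
  by_contra haT
  set f := QuotientGroup.mk' D with hf
  have hD : ∀ x, f x = 1 ↔ x ∈ D := fun x => QuotientGroup.eq_one_iff x
  obtain ⟨j, hj⟩ := pelt_of_dvd hl ⟨i, hi⟩ (orderOf_map_dvd f a)
  have hj0 : j ≠ 0 := by
    rintro rfl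
    exact haT (mem_sup_right ((hD a).1 (orderOf_eq_one_iff.1 hj)))
  set y := a ^ (orderOf (f a) / l) with hydef
  have hy : orderOf (f y) = l := by
    rw [hydef, map_pow]
    exact orderOf_pow_orderOf_div (orderOf_pos _).ne' (hj ▸ dvd_pow_self l hj0)
  have hyT : y ∈ normalizer ((T : Subgroup X) : Set X) := pow_mem ha _
  have hTt : ∀ x ∈ (T : Subgroup X).map f, ∃ k, orderOf x = t ^ k := fun x hx =>
    orderOf_eq_pow_of_mem_isPGroup (T.isPGroup'.map f) hx
  have hyT' : f y ∉ (T : Subgroup X).map f := fun e =>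
    not_dvd_of_pelt ht.out hl hlt (hTt _ e) hy.symm.dvd
  obtain ⟨k, hk⟩ := T.isPGroup'.exists_card_eq
  refine hT (h.lemK hs hsp hl hw hwZ hws
    (hk ▸ Nat.Coprime.pow_left k ((Nat.coprime_primes ht.out hs).2 hst.symm)) hyT fun r hr => ?_)
  have h1 : f (r * y) ∉ (T : Subgroup X).map f := fun e => hyT' (by
    rw [map_mul] at e
    exact (mul_mem_cancel_left (mem_map_of_mem f hr)).1 e)
  have h2 : f (r * y) ^ l ∈ (T : Subgroup X).map f := by
    have : ∀ n : ℕ, ∃ r' ∈ (T : Subgroup X), (r * y) ^ n = r' * y ^ n := fun n => by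
      induction n with
      | zero => exact ⟨1, one_mem _, by simp⟩
      | succ n ih =>
        obtain ⟨r', hr', e⟩ := ih
        exact ⟨r * (y * r' * y⁻¹), mul_mem hr (conj_mem_of_mem_normalizer hyT hr'), by
          rw [pow_succ', e]; group⟩
    obtain ⟨r', hr', e⟩ := this l
    rw [← map_pow, e, map_mul, map_pow, ← hy, pow_orderOf_eq_one, mul_one]
    exact mem_map_of_mem f hr'
  refine ⟨fun e => h1 ((hD _).2 e ▸ one_mem _), ?_⟩
  obtain ⟨b, c, hb, hc, e, hbc, hbt, hct⟩ := exists_p_part t (r * y)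
  by_cases hbD : b ∈ D
  · rw [← hD, map_pow, ← orderOf_eq_one_iff]
    obtain ⟨k, hk⟩ := hTt _ h2
    refine Nat.eq_one_of_dvd_coprimes (show (orderOf (f (r * y) ^ l)).Coprime (orderOf c) from
      hk ▸ Nat.Coprime.pow_left k (ht.out.coprime_iff_not_dvd.2 hct)) dvd_rfl ?_
    rw [← e, map_mul, (hD b).2 hbD, one_mul]
    exact (orderOf_pow_dvd l).trans (orderOf_map_dvd f c)
  by_cases hcD : c ∈ D
  · refine absurd (mem_of_pow_mem_of_coprime h2 ?_) h1
    rw [← e, map_mul, (hD c).2 hcD, mul_one]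
    obtain ⟨k, hk⟩ := pelt_of_dvd ht.out hbt (orderOf_map_dvd f b)
    exact hk ▸ Nat.Coprime.pow_left k ((Nat.coprime_primes ht.out hl).2 (Ne.symm hlt))
  exact absurd hbc.symm (h.lemW ht.out htp hv hvZ hvt hbD hbt hcD hct)

/-- Two primes other than `p` cannot both divide the index exactly. -/
theorem false_of_two {t s : ℕ} (ht : t.Prime) (htp : t ≠ p) (hs : s.Prime) (hsp : s ≠ p)
    (hst : s ≠ t) {v w : X} (hv : v ∈ D) (hvZ : v ∉ Z) (hvt : ∃ k, orderOf v = t ^ k)
    (hw : w ∈ D) (hwZ : w ∉ Z) (hws : ∃ k, orderOf w = s ^ k) (h1 : t ∣ D.index)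
    (h2 : ¬ t * t ∣ D.index) (h3 : s ∣ D.index) : False := by
  haveI := Fact.mk ht
  haveI := Fact.mk hs
  haveI := h.normal
  obtain ⟨T⟩ : Nonempty (Sylow t X) := inferInstance
  obtain ⟨S⟩ : Nonempty (Sylow s X) := inferInstance
  have hT := h.normalizer_le htp hs hsp hst hv hvZ hvt hw hwZ hws T
    fun e => not_dvd_index_of_sylow_le T e h1
  have hS := h.normalizer_le hsp ht htp hst.symm hw hwZ hws hv hvZ hvt S
    fun e => not_dvd_index_of_sylow_le S e h3
  set f := QuotientGroup.mk' D with hf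
  have hfs : Function.Surjective f := QuotientGroup.mk'_surjective D
  set T' := T.mapSurjective hfs with hT'
  have hc : Nat.card T' = t := by
    obtain ⟨k, hk⟩ := T'.isPGroup'.exists_card_eq
    have h4 := (T' : Subgroup (X ⧸ D)).card_mul_index
    rw [hk, ← index_eq_card] at h4
    obtain _ | _ | k := k
    · exact absurd (by rw [← h4] at h1; simpa using h1) T'.not_dvd_index
    · simpa using hk
    · exact absurd (h4 ▸ Dvd.dvd.mul_right ⟨t ^ k, by ring⟩ _) h2
  haveI := isCyclic_of_prime_card hc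
  obtain ⟨P, K, hK, hKc⟩ := Transfer.burnside_normal_complement T' fun g hg => by
    obtain ⟨g, rfl⟩ := hfs g
    have h4 : g ∈ normalizer (((T : Subgroup X) ⊔ D : Subgroup X) : Set X) := by
      have := le_normalizer_comap f (mem_comap.2 hg)
      rwa [Sylow.coe_mapSurjective, comap_map_eq, QuotientGroup.ker_mk'] at this
    obtain ⟨n, hn, h5⟩ := (IsSylowIn.of_sylow T le_sup_left).frattini h4
    have h6 : f g ∈ (T' : Subgroup (X ⧸ D)) := by
      rw [← mem_comap, Sylow.coe_mapSurjective, comap_map_eq, QuotientGroup.ker_mk']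
      exact (mul_mem_cancel_left hn).1 (hT h5)
    exact le_centralizer _ h6
  have h4 : (K.comap f).index = t := by
    rw [index_comap_of_surjective _ hfs, hKc.symm.index_eq_card, P.card_eq_multiplicity,
      ← T'.card_eq_multiplicity, hc]
  have h5 : (S : Subgroup X) ≤ K.comap f := by
    obtain ⟨S', hS'⟩ := exists_sylow_le_of_not_dvd_index (p := s) (H := K.comap f) (by
      rw [h4]; exact fun e => hst ((Nat.prime_dvd_prime_iff_eq hs ht).1 e))
    obtain ⟨g, rfl⟩ := MulAction.exists_smul_eq X S' S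
    rw [coe_smul_sylow, ← cj_eq_of_normal g (K.comap f)]
    exact cj_mono g hS'
  have h6 : normalizer ((S : Subgroup X) : Set X) ⊔ K.comap f = ⊤ := S.normalizer_sup_eq_top' h5
  rw [sup_eq_right.2 (hS.trans (sup_le h5 fun d hd => by
    rw [mem_comap, show f d = 1 from (QuotientGroup.eq_one_iff d).2 hd]; exact one_mem _))] at h6
  rw [h6, index_top] at h4
  exact ht.one_lt.ne h4

end Loc

end CfsgLib.Ito
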