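import Mathlib
import Cfsg.Agent.Lib.Ito.Local
import Cfsg.Agent.Lib.Kazarin.Basic
import Cfsg.Agent.S4034

/-!
# Groups whose non-central `p`-regular classes all have the same size
-/

set_option autoImplicit false

namespace CfsgLib.Ito

open Cfsg Subgroup CfsgLib.Fgs CfsgLib.ClassSz CfsgLib.Tech
open scoped commutatorElement

universe u

variable {G : Type u} [Group G] [Finite G]

omit [Finite G] in
theorem cent_mul_center {z : G} (hz : z ∈ center G) (x : G) :
    centralizer ({z * x} : Set G) = centralizer {x} := by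
  ext g
  have : Commute z g := (mem_center_iff.1 hz g).symm
  rw [mem_cent_iff, mem_cent_iff]
  exact ⟨fun h => by simpa using this.inv_left.mul_left h, this.mul_left⟩

omit [Finite G] in
theorem mem_normalizer_cent {g x : G}
    (h : centralizer ({g * x * g⁻¹} : Set G) = centralizer {x}) :
    g ∈ normalizer ((centralizer ({x} : Set G) : Subgroup G) : Set G) :=
  mem_normalizer_iff_cj.2 ((cj_centralizer_singleton g x).trans h)

omit [Finite G] in
theorem mem_normalizer_of_comm {g x : G} (h : ⁅g, x⁆ ∈ center G) :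
    g ∈ normalizer ((centralizer ({x} : Set G) : Subgroup G) : Set G) :=
  mem_normalizer_cent (by
    rw [← cent_mul_center h x, commutatorElement_def, inv_mul_cancel_right])

omit [Finite G] in
theorem conj_mem_center_iff {g x : G} : g * x * g⁻¹ ∈ center G ↔ x ∈ center G :=
  ⟨fun h => by simpa [mul_assoc] using (inferInstance : (center G).Normal).conj_mem _ h g⁻¹,
    fun h => (inferInstance : (center G).Normal).conj_mem _ h g⟩

theorem exists_second {t : ℕ} [Fact t.Prime] (S : Sylow t G) (h : t ∣ (center G).index) :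
    ∃ x ∈ (S : Subgroup G), x ∉ center G ∧ (∀ g ∈ (S : Subgroup G), ⁅g, x⁆ ∈ center G) ∧
      x ^ t ∈ center G :=
  exists_second_center_rel S.isPGroup' le_rfl le_normalizer
    fun e => not_dvd_index_of_sylow_le S e h

omit [Finite G] in
theorem ix_dvd_index_center (x : G) : ix x ∣ (center G).index := index_dvd_of_le (center_le_cent x)

/-- A fixed point free action of `S / C_S(x)` for `x` in the second centre of `S`. -/
theorem fpf_sq {t : ℕ} [ht : Fact t.Prime] (S : Sylow t G) {x : G}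
    (h1 : ∀ g ∈ (S : Subgroup G), ⁅g, x⁆ ∈ center G) (h2 : x ^ t ∈ center G) {B : Subgroup G}
    [IsMulCommutative B] (hSB : (S : Subgroup G) ≤ normalizer (B : Set G))
    (hcB : (Nat.card B).Coprime t) (hB : ¬ B ≤ center G)
    (hc : ∀ g ∈ (S : Subgroup G), Commute x g → ∀ v ∈ B, Commute v g)
    (hfix : ∀ g ∈ (S : Subgroup G), ¬ Commute x g → ∀ v ∈ B, Commute g v → v ∈ center G) :
    ¬ t * t ∣ ix x := by
  intro hd
  set C := centralizer ({x} : Set G) with hC
  have hd' : t * t ∣ (C ⊓ S).relIndex S := by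
    have h3 : t * t ∣ C.relIndex S * (S : Subgroup G).index := by
      rw [relIndex_mul_index_comm]
      exact hd.mul_left _
    have h4 := ht.out.coprime_iff_not_dvd.2 S.not_dvd_index
    rw [inf_relIndex_right]
    exact (Nat.Coprime.mul_left h4 h4).dvd_of_dvd_mul_right h3
  have hVB : ⁅B, (S : Subgroup G)⁆ ≤ B := CfsgLib.Coprime.commutator_le_of_le_normalizer hSB
  have : IsMulCommutative (⁅B, (S : Subgroup G)⁆ : Subgroup G) :=
    ⟨⟨fun a c => Subtype.ext (mul_comm_of_mem_isMulCommutative B (hVB a.2) (hVB c.2))⟩⟩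
  have hf : ∀ g ∈ (S : Subgroup G), ∀ k ∈ (S : Subgroup G), ⁅g * k, x⁆ = ⁅k, x⁆ * ⁅g, x⁆ :=
    fun g _ k hk => Core.commutatorElement_mul_left_of_commute (mem_center_iff.1 (h1 k hk) g)
  refine not_sq_dvd_relIndex_of_fpf ht.out (V := ⁅B, (S : Subgroup G)⁆) (C := C ⊓ S) (fun h3 => ?_)
    (Nat.Coprime.coprime_dvd_left (card_dvd_of_le hVB) hcB) (normalizer_commutator_ge_right _ _)
    (fun c hc' v hv => hc c hc'.2 (mem_cent_iff.1 hc'.1) v (hVB hv)) (fun g hgS k hk => ?_)
    (fun g hgS => ?_) (fun g hgS hgC v hv hgv => ?_) hd'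
  · have h4 : ¬ (S : Subgroup G) ≤ C := fun h4 => by
      rw [relIndex_eq_one.2 (le_inf h4 le_rfl)] at hd'
      exact ht.out.one_lt.ne' (Nat.eq_one_of_mul_eq_one_right (Nat.dvd_one.1 hd'))
    obtain ⟨g, hgS, hgC⟩ := SetLike.not_le_iff_exists.1 h4
    exact hB fun b hb => hfix g hgS (fun e => hgC (mem_cent_iff.2 e)) b hb
      (commutator_eq_bot_iff_le_centralizer.1 h3 hb g hgS)
  · refine ⟨mem_cent_iff.2 (commutatorElement_eq_one_iff_commute.1 ?_).symm,
      comm_mem_of_normalizer (le_normalizer hgS) hk⟩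
    rw [commutatorElement_def g k, hf _ (mul_mem (mul_mem hgS hk) (inv_mem hgS)) _ (inv_mem hk),
      hf _ (mul_mem hgS hk) _ (inv_mem hgS), hf _ hgS _ hk,
      Core.commutatorElement_inv_left_of_commute (mem_center_iff.1 (h1 k hk) k),
      Core.commutatorElement_inv_left_of_commute (mem_center_iff.1 (h1 g hgS) g),
      ← mem_center_iff.1 (h1 k hk)]
    group
  · refine ⟨mem_cent_iff.2 (commutatorElement_eq_one_iff_commute.1 ?_).symm, pow_mem hgS _⟩
    rw [Core.commutatorElement_pow_left_of_commute (mem_center_iff.1 (h1 g hgS) g),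
      ← Core.commutatorElement_pow_right_of_commute (mem_center_iff.1 (h1 g hgS) x),
      commutatorElement_eq_one_iff_commute]
    exact mem_center_iff.1 h2 g
  · have h3 := CfsgLib.Coprime.centralizer_inf_commutator_eq_bot hSB
      (Core.isPGroup_coprime_card S.isPGroup' hcB)
    exact mem_bot.1 (h3 ▸ ⟨center_le_centralizer _ (hfix g hgS
      (fun e => hgC ⟨mem_cent_iff.2 e, hgS⟩) v (hVB hv) hgv), hv⟩)

theorem le_center_sup_pCore {p : ℕ} [Fact p.Prime] {L : Subgroup G} [L.Normal]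
    (h : ∀ u ∈ L, ¬ p ∣ orderOf u → u ∈ center G) : L ≤ center G ⊔ pCore p G := by
  intro d hd
  obtain ⟨a, b, ha, hb, rfl, hab, hap, hbp⟩ := exists_p_part p d
  rw [hab.eq]
  refine mul_mem_sup (h b (zpowers_le.2 hd hb) hbp) ?_
  have h1 : IsPGroup p (L ⧸ center L) := by
    intro x
    obtain ⟨x, rfl⟩ := QuotientGroup.mk_surjective x
    obtain ⟨a, b, -, -, rfl, hab, ⟨k, hk⟩, hb⟩ := exists_p_part p x
    refine ⟨k, ?_⟩
    rw [← QuotientGroup.mk_pow, hab.mul_pow, ← hk, pow_orderOf_eq_one, one_mul,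
      QuotientGroup.eq_one_iff]
    exact pow_mem (show b ∈ center L from mem_center_iff.2 fun g => Subtype.ext
      (mem_center_iff.1 (h b b.2 (by rwa [orderOf_coe])) g)) _
  haveI := h1.isNilpotent
  have h2 : Group.IsNilpotent L := of_quotient_center_nilpotent this
  exact Core.le_pCore_of_le_fittingSubgroup (zpowers_le.2 (Core.le_fittingSubgroup (N := L) h2
    (zpowers_le.2 hd ha))) (isPGroup_zpowers_iff.2 hap) (mem_zpowers a)

theorem eq_one_of_pelt {Y : Type*} [Group Y] {p : ℕ} (hp : p.Prime) (f : G →* Y) {u : G}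
    (hu : ¬ p ∣ orderOf u) {K : Subgroup Y} (hK : IsPGroup p K) (h : f u ∈ K) : f u = 1 := by
  obtain ⟨k, hk⟩ := isPGroup_iff_mem.1 hK _ h
  exact orderOf_eq_one_iff.1 (Nat.eq_one_of_dvd_coprimes
    (Nat.Coprime.pow_left k (hp.coprime_iff_not_dvd.2 hu)) (orderOf_dvd_of_pow_eq_one hk)
    (orderOf_map_dvd f u))

omit [Finite G] in
theorem isSolvable_of_quot_center (h : Group.IsSolvable (G ⧸ center G)) : Group.IsSolvable G := by
  haveI : Group.IsSolvable (center G) :=
    Group.isSolvable_of_comm fun a b => Subtype.ext (mem_center_iff.1 b.2 a)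
  exact Group.isSolvable_of_ker_le_range (center G).subtype (QuotientGroup.mk' (center G)) (by simp)

theorem isSolvable_of_two {p q : ℕ} (hp : p.Prime) (hq : q.Prime)
    (h : ∀ r : ℕ, r.Prime → r ∣ (center G).index → r = p ∨ r = q) : Group.IsSolvable G :=
  isSolvable_of_quot_center (Char.isSolvable_of_prime_dvd_card (G := G ⧸ center G) hp hq h)

/-- All non-central `p`-regular elements have class size `n`. -/
def PR (G : Type u) [Group G] (p n : ℕ) : Prop :=
  ∀ x : G, ¬ p ∣ orderOf x → x ∉ center G → ix x = n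

namespace PR

variable {p n : ℕ} (h : PR G p n)
include h

theorem ceq {x y : G} (hx : ¬ p ∣ orderOf x) (hy : ¬ p ∣ orderOf y) (hyZ : y ∉ center G)
    (hle : centralizer ({x} : Set G) ≤ centralizer {y}) :
    centralizer ({x} : Set G) = centralizer {y} :=
  cent_eq_of_le_of_index_eq hle ((h x hx fun h1 => hyZ (cent_eq_top_iff.1
    (top_le_iff.1 ((cent_eq_top_iff.2 h1).ge.trans hle)))).trans (h y hy hyZ).symm)

theorem le_of_coprime (hp : p.Prime) {u v : G} (hu : ¬ p ∣ orderOf u) (hv : ¬ p ∣ orderOf v)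
    (huZ : u ∉ center G) (hc : Commute u v) (hcop : (orderOf u).Coprime (orderOf v)) :
    centralizer ({u} : Set G) ≤ centralizer {v} := by
  have h1 := cent_mul_of_coprime hc hcop
  rw [← h.ceq (fun e => (hp.dvd_mul.1 (e.trans hc.orderOf_mul_dvd_mul_orderOf)).elim hu hv) hu huZ
    (h1.le.trans inf_le_left), h1]
  exact inf_le_right

theorem exists_pelt (hp : p.Prime) {t : ℕ} (ht : t.Prime) (htp : t ≠ p)
    (hd : t ∣ (center G).index) {x : G} (hx : ¬ p ∣ orderOf x) (hxZ : x ∉ center G) :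
    ∃ w ∈ centralizer ({x} : Set G), w ∉ center G ∧ ∃ k, orderOf w = t ^ k := by
  haveI := Fact.mk ht
  obtain ⟨w, -, hwZ, hw⟩ := exists_pelt_not_mem (H := ⊤) (relIndex_top_right (center G) ▸ hd)
  have h1 := dvd_relIndex_of_pelt (Z := center G) ht le_normalizer_of_normal (self_mem_cent w) hwZ hw
  have h2 := relIndex_mul_index (center_le_cent w)
  have h3 := relIndex_mul_index (center_le_cent x)
  have h4 : ix w = ix x := (h w (not_dvd_of_pelt ht hp htp.symm hw) hwZ).trans (h x hx hxZ).symm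
  rw [← h3, ← ix, ← ix, h4] at h2
  exact exists_pelt_not_mem (Nat.eq_of_mul_eq_mul_right (ix_pos x) h2 ▸ h1)

section

variable (hp : p.Prime) {q r : ℕ} (hq : q.Prime) (hr : r.Prime) (hqp : q ≠ p) (hrp : r ≠ p)
  (hqr : q ≠ r) (hqd : q ∣ (center G).index) (hrd : r ∣ (center G).index)
include hp hq hr hqp hrp hqr hqd hrd

theorem exists_other {t : ℕ} {x : G} (hx : ¬ p ∣ orderOf x) (hxZ : x ∉ center G) :
    ∃ s : ℕ, s.Prime ∧ s ≠ p ∧ s ≠ t ∧
      ∃ w ∈ centralizer ({x} : Set G), w ∉ center G ∧ ∃ k, orderOf w = s ^ k := by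
  by_cases e : q = t
  · exact ⟨r, hr, hrp, e ▸ hqr.symm, h.exists_pelt hp hr hrp hrd hx hxZ⟩
  · exact ⟨q, hq, hqp, e, h.exists_pelt hp hq hqp hqd hx hxZ⟩

theorem good {x v : G} (hx : ¬ p ∣ orderOf x) (hxZ : x ∉ center G) (hv : ¬ p ∣ orderOf v)
    (hvx : v ∈ centralizer ({x} : Set G)) : centralizer ({x} : Set G) ≤ centralizer {v} := by
  obtain ⟨a, ha, haZ, s, k, hs, hk⟩ := exists_primary_not_mem (center G) _ x rfl hxZ
  have hap : ¬ p ∣ orderOf a := fun e => hx (e.trans (orderOf_dvd_of_mem_zpowers ha))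
  rw [h.ceq hx hap haZ (cent_le_cent_of_mem_zpowers ha)] at hvx ⊢
  obtain ⟨t, ht, htp, hts, w, hw, hwZ, hwt⟩ :=
    h.exists_other hp hq hr hqp hrp hqr hqd hrd (t := s) hap haZ
  have hwp := not_dvd_of_pelt ht hp htp.symm hwt
  have h1 := h.ceq hap hwp hwZ (h.le_of_coprime hp hap hwp haZ (mem_cent_iff.1 hw)
    (coprime_of_pelt hs ⟨k, hk⟩ (not_dvd_of_pelt ht hs hts.symm hwt)))
  haveI := Fact.mk hs
  obtain ⟨b, c, hb, hc, rfl, hbc, hb', hc'⟩ := exists_p_part s v
  rw [cent_mul_of_coprime hbc (coprime_of_pelt hs hb' hc')]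
  have hz := zpowers_le.2 hvx
  refine le_inf ?_ (h.le_of_coprime hp hap (fun e => hv (e.trans (orderOf_dvd_of_mem_zpowers hc)))
    haZ (mem_cent_iff.1 (hz hc)) (coprime_of_pelt hs ⟨k, hk⟩ hc'))
  rw [h1] at hz ⊢
  exact h.le_of_coprime hp hwp (fun e => hv (e.trans (orderOf_dvd_of_mem_zpowers hb))) hwZ
    (mem_cent_iff.1 (hz hb)) (coprime_of_pelt ht hwt (not_dvd_of_pelt hs ht hts hb'))

theorem good_eq {x v : G} (hx : ¬ p ∣ orderOf x) (hxZ : x ∉ center G) (hv : ¬ p ∣ orderOf v)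
    (hvx : v ∈ centralizer ({x} : Set G)) (hvZ : v ∉ center G) :
    centralizer ({x} : Set G) = centralizer {v} :=
  h.ceq hx hv hvZ (h.good hp hq hr hqp hrp hqr hqd hrd hx hxZ hv hvx)

theorem not_sq {t : ℕ} (ht : t.Prime) (htp : t ≠ p) : ¬ t * t ∣ n ∨ ∀ x : G, ix x ≠ n := by
  refine or_iff_not_imp_right.2 fun h0 hd => ?_
  push Not at h0
  obtain ⟨x0, hx0⟩ := h0
  haveI := Fact.mk ht
  obtain ⟨S⟩ : Nonempty (Sylow t G) := inferInstance
  obtain ⟨x, hx, hxZ, h1, h2⟩ := exists_second S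
    ((dvd_mul_right t t).trans (hd.trans (hx0 ▸ ix_dvd_index_center x0)))
  have hxp := not_dvd_of_pelt ht hp htp.symm (orderOf_eq_pow_of_mem_isPGroup S.isPGroup' hx)
  obtain ⟨s, hs, hsp, hst, w, hw, hwZ, hws⟩ :=
    h.exists_other hp hq hr hqp hrp hqr hqd hrd (t := t) hxp hxZ
  haveI := Fact.mk hs
  set C := centralizer ({x} : Set G) with hC
  set V := (pCore s C).map C.subtype with hV
  have hVp : IsPGroup s V := Core.isPGroup_map_pCore C
  have hVC : V ≤ C := map_subtype_le _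
  have hp' : ∀ v ∈ V, ¬ p ∣ orderOf v := fun v hv =>
    not_dvd_of_pelt hs hp hsp.symm (orderOf_eq_pow_of_mem_isPGroup hVp hv)
  have hg : ∀ v ∈ C, ¬ p ∣ orderOf v → ∀ c ∈ C, Commute v c := fun v hv hv' c hc =>
    mem_cent_iff.1 (h.good hp hq hr hqp hrp hqr hqd hrd hxp hxZ hv' hv hc)
  haveI : IsMulCommutative V := ⟨⟨fun a b => Subtype.ext (hg a (hVC a.2) (hp' a a.2) b (hVC b.2))⟩⟩
  obtain ⟨k, hk⟩ := hVp.exists_card_eq
  refine fpf_sq S h1 h2 (B := V) (fun g hg => Core.normalizer_le_normalizer_map_pCore _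
    (mem_normalizer_of_comm (h1 g hg)))
    (hk ▸ Nat.Coprime.pow_left k ((Nat.coprime_primes hs ht).2 hst))
    (fun e => hwZ (e (mem_map_pCore_of_comm hw (hg w hw (not_dvd_of_pelt hs hp hsp.symm hws)) hws)))
    (fun g _ hc v hv => hg v (hVC hv) (hp' v hv) g (mem_cent_iff.2 hc))
    (fun g _ hc v hv hgv => ?_) (h x hxp hxZ ▸ hd)
  by_contra hvZ
  exact hc (mem_cent_iff.1 (h.good_eq hp hq hr hqp hrp hqr hqd hrd hxp hxZ (hp' v hv) (hVC hv)
    hvZ ▸ mem_cent_iff.2 hgv.symm))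

theorem sylow {t : ℕ} [ht : Fact t.Prime] (htp : t ≠ p) {x : G} (hx : ¬ p ∣ orderOf x)
    (hxZ : x ∉ center G) : IsSylowIn t ((pCore t (centralizer ({x} : Set G))).map
      (centralizer ({x} : Set G)).subtype) (centralizer {x}) := by
  refine isSylowIn_of_maximal (Core.isPGroup_map_pCore _) (map_subtype_le _) fun R hR _ hle v hv => ?_
  have h1 := orderOf_eq_pow_of_mem_isPGroup hR hv
  exact mem_map_pCore_of_comm (hle hv) (fun c hc => mem_cent_iff.1 (h.good hp hq hr hqp hrp hqr hqd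
    hrd hx hxZ (not_dvd_of_pelt ht.out hp htp.symm h1) (hle hv) hc)) h1

theorem normalizer_le {t : ℕ} [ht : Fact t.Prime] (htp : t ≠ p) (hd : t ∣ (center G).index)
    {x : G} (hx : ¬ p ∣ orderOf x) (hxZ : x ∉ center G) {V : Subgroup G}
    (hV : IsSylowIn t V (centralizer {x})) :
    normalizer (V : Set G) ≤ normalizer ((centralizer ({x} : Set G) : Subgroup G) : Set G) := by
  intro g hg
  obtain ⟨w, hw, hwZ, hwt⟩ := h.exists_pelt hp ht.out htp hd hx hxZ
  obtain ⟨c, -, hc⟩ := hV.exists_conj_mem hw (isPGroup_zpowers_iff.2 hwt)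
  have h1 : ∀ v ∈ V, v ∉ center G → centralizer ({x} : Set G) = centralizer {v} := fun v hv hvZ =>
    h.good_eq hp hq hr hqp hrp hqr hqd hrd hx hxZ (not_dvd_of_pelt ht.out hp htp.symm
      (orderOf_eq_pow_of_mem_isPGroup hV.pgroup hv)) (hV.le hv) hvZ
  have h2 := mt (conj_mem_center_iff (g := c)).1 hwZ
  rw [h1 _ hc h2]
  exact mem_normalizer_cent ((h1 _ (conj_mem_of_mem_normalizer hg hc)
    (mt conj_mem_center_iff.1 h2)).symm.trans (h1 _ hc h2))

theorem dvd_relIndex {t : ℕ} (ht : t.Prime) (htp : t ≠ p) (hd : t ∣ n) {x : G}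
    (hx : ¬ p ∣ orderOf x) (hxZ : x ∉ center G) : t ∣ (centralizer ({x} : Set G)).relIndex
      (normalizer ((centralizer ({x} : Set G) : Subgroup G) : Set G)) := by
  haveI := Fact.mk ht
  have hV := h.sylow hp hq hr hqp hrp hqr hqd hrd htp hx hxZ
  rw [← h x hx hxZ] at hd
  obtain ⟨R, hR, h1, -, h2⟩ := exists_lt_pgroup_normalizer (K := ⊤) hV.pgroup le_top
    fun e => e.not_dvd (by rw [relIndex_top_right]; exact hd.trans (index_dvd_of_le hV.le))
  have h3 : ¬ R ≤ centralizer {x} := fun e => h1.ne' (hV.eq_of_le hR h1.le e)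
  obtain ⟨y, hy, hy'⟩ := SetLike.not_le_iff_exists.1 h3
  exact dvd_relIndex_of_pelt ht le_rfl (h.normalizer_le hp hq hr hqp hrp hqr hqd hrd htp
    (hd.trans (ix_dvd_index_center x)) hx hxZ hV (h2 hy)) hy' (orderOf_eq_pow_of_mem_isPGroup hR hy)

theorem false_of_two {t s : ℕ} (ht : t.Prime) (htp : t ≠ p) (hs : s.Prime) (hsp : s ≠ p)
    (hst : s ≠ t) (h1 : t ∣ n) (h2 : s ∣ n) : False := by
  haveI := Fact.mk hq
  obtain ⟨x, -, hxZ, hxq⟩ := exists_pelt_not_mem (H := ⊤) (relIndex_top_right (center G) ▸ hqd)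
  have hx := not_dvd_of_pelt hq hp hqp.symm hxq
  have hn := h x hx hxZ
  set D := centralizer ({x} : Set G) with hD
  set X := normalizer (D : Set G) with hX
  have hL : Loc p ((center G).subgroupOf X) (D.subgroupOf X) :=
    ⟨hp, normal_in_normalizer, fun z hz => mem_center_iff.2 fun g => Subtype.ext
      (mem_center_iff.1 hz g), fun z hz => center_le_cent x hz, fun u hu hu' d hd => Subtype.ext
      (mem_cent_iff.1 (h.good hp hq hr hqp hrp hqr hqd hrd hx hxZ (v := u) (by rwa [orderOf_coe]) hu hd)),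
      fun g hg v hv hv' hc => by_contra fun hvZ => hg (by
        rw [mem_subgroupOf, hD, h.good_eq hp hq hr hqp hrp hqr hqd hrd hx hxZ (v := v)
          (by rwa [orderOf_coe]) hv hvZ]
        exact mem_cent_iff.2 (hc.symm.map X.subtype))⟩
  obtain ⟨v, hv, hvZ, hvt⟩ := h.exists_pelt hp ht htp (h1.trans (hn ▸ ix_dvd_index_center x)) hx hxZ
  obtain ⟨w, hw, hwZ, hws⟩ := h.exists_pelt hp hs hsp (h2.trans (hn ▸ ix_dvd_index_center x)) hx hxZ
  exact hL.false_of_two ht htp hs hsp hst (v := ⟨v, le_normalizer hv⟩) (w := ⟨w, le_normalizer hw⟩)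
    hv hvZ (by rwa [orderOf_mk]) hw hwZ (by rwa [orderOf_mk])
    (h.dvd_relIndex hp hq hr hqp hrp hqr hqd hrd ht htp h1 hx hxZ)
    (fun e => ((h.not_sq hp hq hr hqp hrp hqr hqd hrd ht htp).resolve_right fun e => e x hn)
      (e.trans (hn ▸ relIndex_dvd_index_of_le le_normalizer)))
    (h.dvd_relIndex hp hq hr hqp hrp hqr hqd hrd hs hsp h2 hx hxZ)

theorem not_dvd : ¬ q ∣ n := fun hqn => by
  haveI := Fact.mk hp
  haveI := Fact.mk hq
  haveI := Fact.mk hr
  obtain ⟨Q⟩ : Nonempty (Sylow q G) := inferInstance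
  obtain ⟨z, hz, hzZ, h1, -⟩ := exists_second Q hqd
  have hzq := orderOf_eq_pow_of_mem_isPGroup Q.isPGroup' hz
  have hn := h z (not_dvd_of_pelt hq hp hqp.symm hzq) hzZ
  haveI := Core.pCore_characteristic p (G ⧸ center G)
  set f := (QuotientGroup.mk' (pCore p (G ⧸ center G))).comp (QuotientGroup.mk' (center G)) with hf
  have hfs : Function.Surjective f :=
    (QuotientGroup.mk'_surjective _).comp (QuotientGroup.mk'_surjective _)
  have hk : ∀ u, ¬ p ∣ orderOf u → f u = 1 → u ∈ center G := fun u hu e =>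
    (QuotientGroup.eq_one_iff u).1 (eq_one_of_pelt hp (QuotientGroup.mk' _) hu
      (Core.isPGroup_pCore p _) ((QuotientGroup.eq_one_iff _).1 e))
  have hZ : ∀ u ∈ center G, f u = 1 := fun u hu => by
    rw [hf, MonoidHom.comp_apply, show QuotientGroup.mk' (center G) u = 1 from
      (QuotientGroup.eq_one_iff u).2 hu, map_one]
  have h2 : f z ∈ pCore q _ := by
    obtain ⟨j, hj⟩ := isPGroup_iff_mem.1 Q.isPGroup' z hz
    refine Kazarin.mem_pCore_of_pCore_eq_bot hp hq hqp (Core.pCore_quotient_pCore p _)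
      (m := j) (by rw [← map_pow, hj, map_one])
      (Nat.eq_prime_pow_of_unique_prime_dvd index_ne_zero_of_finite fun {t} ht hd => ?_)
    by_contra htp
    by_cases htq : t = q
    · subst htq
      refine not_dvd_index_of_sylow_le (Q.mapSurjective hfs) ?_ hd
      rintro _ ⟨g, hg, rfl⟩
      rw [mem_cent_iff, ← commutatorElement_eq_one_iff_commute, ← map_commutatorElement,
        ← commutatorElement_inv, map_inv, hZ _ (h1 g hg), inv_one]
    · exact h.false_of_two hp hq hr hqp hrp hqr hqd hrd hq hqp ht htp htq hqn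
        (hd.trans (hn ▸ index_cent_map_dvd hfs z))
  obtain ⟨y, hy, hyz⟩ := SetLike.not_le_iff_exists.1
    fun e => not_dvd_index_of_sylow_le Q (H := centralizer {z}) e (hn ▸ hqn :)
  have hyZ : y ∉ center G := fun e => hyz (center_le_cent z e)
  have hyp := not_dvd_of_pelt hq hp hqp.symm (orderOf_eq_pow_of_mem_isPGroup Q.isPGroup' hy)
  have hV := h.sylow hp hq hr hqp hrp hqr hqd hrd hqp hyp hyZ
  have hW := h.sylow hp hq hr hqp hrp hqr hqd hrd hrp hyp hyZ
  set D := centralizer ({y} : Set G) with hD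
  set V := (pCore q D).map D.subtype
  set W := (pCore r D).map D.subtype
  obtain ⟨Q', hQ'⟩ := hV.pgroup.exists_le_sylow
  have h3 : (Q' : Subgroup G) ≤ normalizer (V : Set G) := by
    obtain ⟨k, hk⟩ := Q'.isPGroup'.exists_card_eq
    obtain ⟨j, hj, e⟩ := (Nat.dvd_prime_pow hq).1 (hk ▸ relIndex_dvd_card V Q')
    obtain _ | _ | j := j
    · exact (relIndex_eq_one.1 e).trans le_normalizer
    · rw [← normal_subgroupOf_iff_le_normalizer hQ']
      refine normal_of_index_eq_minFac_card ?_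
      rw [hk, hq.pow_minFac (by omega), ← relIndex, e]; simp
    · refine absurd ?_ ((h.not_sq hp hq hr hqp hrp hqr hqd hrd hq hqp).resolve_right fun e => e z hn)
      have h4 := hq.coprime_iff_not_dvd.2 hV.not_dvd
      refine (Nat.Coprime.mul_left h4 h4).dvd_of_dvd_mul_left ?_
      rw [← h y hyp hyZ, relIndex_mul_index hV.le, ← relIndex_mul_index hQ', e]
      exact Dvd.dvd.mul_right ⟨q ^ j, by ring⟩ _
  obtain ⟨w, hw, e⟩ := Core.pCore_le_sylow (Q'.mapSurjective hfs) h2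
  have hwN := h.normalizer_le hp hq hr hqp hrp hqr hqd hrd hqp hqd hyp hyZ hV (h3 hw)
  obtain ⟨v, hv, hvZ, hvr⟩ := h.exists_pelt hp hr hrp hrd hyp hyZ
  have hvp := not_dvd_of_pelt hr hp hrp.symm hvr
  have hvW : v ∈ W := mem_map_pCore_of_comm hv (fun c hc => mem_cent_iff.1
    (h.good hp hq hr hqp hrp hqr hqd hrd hyp hyZ hvp hv hc)) hvr
  have h4 : ⁅w, v⁆ ∈ W := comm_mem_of_normalizer (Core.normalizer_le_normalizer_map_pCore _ hwN) hvW
  have h5 := orderOf_eq_pow_of_mem_isPGroup hW.pgroup h4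
  haveI := Core.pCore_characteristic q ((G ⧸ center G) ⧸ pCore p (G ⧸ center G))
  have h6 : ⁅w, v⁆ ∈ center G := hk _ (not_dvd_of_pelt hr hp hrp.symm h5)
    (eq_one_of_pelt hq f (not_dvd_of_pelt hr hq hqr h5) (Core.isPGroup_pCore q _) (by
      rw [map_commutatorElement, commutatorElement_def, mul_assoc, mul_assoc, ← mul_assoc (f v), e]
      exact mul_mem h2 (Normal.conj_mem inferInstance _ (inv_mem h2) _)))
  obtain ⟨k, hk'⟩ := hW.pgroup.exists_card_eq
  obtain ⟨j, hj⟩ := orderOf_eq_pow_of_mem_isPGroup Q'.isPGroup' hw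
  have h7 := commute_of_comm_mem_center h6 h4
    (hk' ▸ hj ▸ Nat.Coprime.pow _ _ ((Nat.coprime_primes hq hr).2 hqr))
  have h8 : Commute y w := mem_cent_iff.1 (h.good_eq hp hq hr hqp hrp hqr hqd hrd hyp hyZ hvp hv
    hvZ ▸ mem_cent_iff.2 h7.symm)
  obtain ⟨c, hc, a, ha, e'⟩ := (Core.mem_sup_of_le_normalizer_left le_normalizer_of_normal).1
    (le_center_sup_pCore (p := p) (L := f.ker) (fun u hu hu' => hk u hu' hu)
      (show z⁻¹ * w ∈ f.ker by rw [MonoidHom.mem_ker, map_mul, map_inv, e, inv_mul_cancel]))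
  haveI := Core.pCore_characteristic p G
  have h9 : QuotientGroup.mk' (pCore p G) ⁅y, z⁆ = 1 := by
    rw [map_commutatorElement, commutatorElement_eq_one_iff_commute]
    have h10 := h8.map (QuotientGroup.mk' (pCore p G))
    rw [← mul_inv_cancel_left z w, ← e', map_mul, map_mul, show QuotientGroup.mk' (pCore p G) a = 1
      from (QuotientGroup.eq_one_iff a).2 ha, mul_one] at h10
    simpa using h10.mul_right (Commute.map (mem_center_iff.1 hc y) (QuotientGroup.mk' _)).inv_right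
  exact hyz (mem_cent_iff.2 (commutatorElement_eq_one_iff_commute.1 (eq_one_of_pelt hp
    (MonoidHom.id G) (not_dvd_of_pelt hq hp hqp.symm (orderOf_eq_pow_of_mem_isPGroup Q.isPGroup'
      (comm_mem_of_normalizer (le_normalizer hy) hz))) (Core.isPGroup_pCore p G)
    ((QuotientGroup.eq_one_iff _).1 h9))).symm)

end

/-- Two `p`-regular class sizes. -/
theorem main (hp : p.Prime) : (∀ x : G, ¬ p ∣ orderOf x → ∃ k, ix x = p ^ k) ∨
    ∃ q : ℕ, q.Prime ∧ q ≠ p ∧ q ∣ n ∧
      ∀ r : ℕ, r.Prime → r ∣ (center G).index → r = p ∨ r = q := by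
  refine or_iff_not_imp_right.2 fun hn x hx => ?_
  by_cases hxZ : x ∈ center G
  · exact ⟨0, index_cent_eq_one_iff.2 hxZ⟩
  refine ⟨_, Nat.eq_prime_pow_of_unique_prime_dvd (ix_pos x).ne' fun {q} hq hd => ?_⟩
  by_contra hqp
  refine hn ⟨q, hq, hqp, h x hx hxZ ▸ hd, fun r hr hrd => by_contra fun hc => ?_⟩
  push Not at hc
  exact h.not_dvd hp hq hr hqp hc.1 hc.2.symm (hd.trans (ix_dvd_index_center x)) hrd
    (h x hx hxZ ▸ hd)

end PR

theorem exists_ab_compl {p : ℕ} (hp : p.Prime) (h : ∀ x : G, ¬ p ∣ orderOf x → ∃ k, ix x = p ^ k) :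
    ∃ H : Subgroup G, IsMulCommutative H ∧ ¬ p ∣ Nat.card H ∧ ∃ k : ℕ, H.index = p ^ k :=
  (Cfsg.Agent.S4034.result hp).1 fun x hx => by
    rw [ncard_carrier_eq_index]; exact h x (hp.coprime_iff_not_dvd.1 hx.symm)

theorem isSolvable_of_pow {p : ℕ} (hp : p.Prime)
    (h : ∀ x : G, ¬ p ∣ orderOf x → ∃ k, ix x = p ^ k) : Group.IsSolvable G :=
  Cfsg.Agent.S4034.hyp_solvable hp fun x hx => h x (hp.coprime_iff_not_dvd.1 hx.symm)

theorem PR.isSolvable {p n : ℕ} (h : PR G p n) (hp : p.Prime) : Group.IsSolvable G :=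
  (h.main hp).elim (isSolvable_of_pow hp) fun ⟨_, hq, _, _, h⟩ => isSolvable_of_two hp hq h

end CfsgLib.Ito
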