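import Mathlib
import Cfsg.Agent.Lib.Ito.PReg
import Cfsg.Agent.Lib.Coprime.HallAmbient
import Cfsg.Agent.Lib.ClassSz.Isaacs

/-!
# Class sizes with a common `p'`-part and centralisers with abelian `p`-complements
-/

set_option autoImplicit false

namespace CfsgLib.Ito

open Cfsg Subgroup CfsgLib.Fgs CfsgLib.ClassSz CfsgLib.Tech CfsgLib.Coprime
open scoped commutatorElement

universe u

variable {G : Type u} [Group G] [Finite G]

theorem exists_two_primes (hns : ¬ Group.IsSolvable G) {p : ℕ} (hp : p.Prime) :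
    ∃ q r : ℕ, q.Prime ∧ r.Prime ∧ q ≠ p ∧ r ≠ p ∧ q < r ∧ q ∣ (center G).index ∧
      r ∣ (center G).index := by
  by_contra hc
  push Not at hc
  by_cases h : ∀ r : ℕ, r.Prime → r ∣ (center G).index → r = p
  · exact hns (isSolvable_of_two hp hp fun r hr hd => Or.inl (h r hr hd))
  push Not at h
  obtain ⟨q, hq, hd, hqp⟩ := h
  refine hns (isSolvable_of_two hp hq fun r hr hd' => by_contra fun e => ?_)
  push Not at e
  rcases lt_or_gt_of_ne e.2 with h | h
  exacts [hc r q hr hq e.1 hqp h hd' hd, hc q r hq hr hqp e.1 h hd hd']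

theorem piNum_iff {p n : ℕ} (hp : p.Prime) : IsPiNum {p}ᶜ n ↔ ¬ p ∣ n :=
  ⟨fun h e => h p hp e rfl, fun h _ _ hd e => h (e ▸ hd :)⟩

theorem exists_hall_norm {p : ℕ} (hp : p.Prime) {K S U : Subgroup G} (hK : Group.IsSolvable K)
    (hS : Group.IsSolvable S) (hn : S ≤ normalizer (K : Set G)) (hU : U ≤ S ⊔ K)
    (hU' : ¬ p ∣ Nat.card U) : ∃ M, IsPiHallOf {p}ᶜ M (S ⊔ K) ∧ U ≤ M ∧
      IsPiHallOf {p}ᶜ (M ⊓ K) K ∧ M ≤ normalizer ((M ⊓ K : Subgroup G) : Set G) := by
  obtain ⟨M, hM, h1⟩ := exists_isPiHallOf_ge (π := {p}ᶜ) (Core.isSolvable_sup_of_le_normalizer hn) hU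
    ((piNum_iff hp).2 hU')
  have h2 := hM.1.trans (sup_le hn le_normalizer)
  exact ⟨M, hM, h1, isPiHallOf_inf_of_le_normalizer hM le_sup_right h2,
    BGI.le_normalizer_inf le_normalizer h2⟩

theorem commute_of_lt {r : ℕ} (hr : r.Prime) {g w : G} (hg : ∃ k, orderOf g = r ^ k)
    {V : Subgroup G} (hw : w ∈ V) (hn : g ∈ normalizer (V : Set G)) (h : Nat.card V < r) :
    Commute w g := by
  obtain ⟨k, hk⟩ := hg
  obtain ⟨j, -, hj⟩ := (Nat.dvd_prime_pow hr).1
    (hk ▸ Nat.card_zpowers g ▸ relIndex_dvd_card (centralizer {w}) (zpowers g))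
  have h1 : r ^ j ≤ Nat.card V := by
    rw [← hj, relIndex_cent_eq_ncard]
    refine Set.ncard_le_ncard (t := (V : Set G)) ?_
    rintro _ ⟨e, he, rfl⟩
    exact conj_mem_of_mem_normalizer (zpowers_le.2 hn he) hw
  obtain _ | j := j
  · exact mem_cent_iff.1 (relIndex_eq_one.1 hj (mem_zpowers g))
  · exact absurd ((Nat.le_self_pow j.succ_ne_zero r).trans h1) h.not_ge

/-- A Sylow subgroup of an abelian subgroup. -/
theorem isSylowIn_pCore {t : ℕ} [Fact t.Prime] (A : Subgroup G) [IsMulCommutative A] :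
    IsSylowIn t ((pCore t A).map A.subtype) A :=
  isSylowIn_of_maximal (Core.isPGroup_map_pCore _) (map_subtype_le _) fun _ hR _ hle _ hv =>
    mem_map_pCore_of_comm (hle hv) (fun _ hc => mul_comm_of_mem_isMulCommutative A (hle hv) hc)
      (orderOf_eq_pow_of_mem_isPGroup hR hv)

theorem relIndex_dvd_of_not_sq {t : ℕ} [ht : Fact t.Prime] {V : Subgroup G} {Q : Sylow t G}
    (hQ : V ≤ Q) (h : ¬ t * t ∣ V.index) : V.relIndex Q ∣ t := by
  obtain ⟨k, hk⟩ := Q.isPGroup'.exists_card_eq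
  obtain ⟨j, hj, e⟩ := (Nat.dvd_prime_pow ht.out).1 (hk ▸ relIndex_dvd_card V Q)
  obtain _ | _ | j := j
  · simp [e]
  · simp [e]
  · refine absurd ?_ h
    rw [← relIndex_mul_index hQ, e]
    exact Dvd.dvd.mul_right ⟨t ^ j, by ring⟩ _

theorem le_normalizer_of_relIndex_dvd {t : ℕ} [ht : Fact t.Prime] {V Q : Subgroup G}
    (hQ : IsPGroup t Q) (hV : V ≤ Q) (h : V.relIndex Q ∣ t) : Q ≤ normalizer (V : Set G) := by
  rcases (Nat.dvd_prime ht.out).1 h with e | e
  · exact (relIndex_eq_one.1 e).trans le_normalizer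
  obtain ⟨k, hk⟩ := hQ.exists_card_eq
  rw [← normal_subgroupOf_iff_le_normalizer hV]
  refine normal_of_index_eq_minFac_card ?_
  rw [hk, ht.out.pow_minFac, ← relIndex, e]
  rintro rfl
  exact ht.out.ne_one (Nat.dvd_one.1 (e ▸ hk ▸ relIndex_dvd_card V Q :))

/-- The hypotheses of the torus argument. -/
structure TorH (G : Type u) [Group G] (p c : ℕ) : Prop where
  prime : p.Prime
  size : ∀ x : G, x ∉ center G → ∃ k, ix x = c * p ^ k
  solv : ∀ x : G, x ∉ center G → Group.IsSolvable (centralizer ({x} : Set G))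
  ab : ∀ x : G, x ∉ center G → ∀ U ≤ centralizer ({x} : Set G), ¬ p ∣ Nat.card U →
    IsMulCommutative U

/-- A `p`-complement of the centraliser of a non-central element. -/
def Tor (p : ℕ) (A : Subgroup G) : Prop :=
  ∃ x, x ∉ center G ∧ IsPiHallOf {p}ᶜ A (centralizer {x})

omit [Finite G] in
theorem Tor.cj {p : ℕ} {A : Subgroup G} (h : Tor p A) (g : G) : Tor p (Tech.cj g A) := by
  obtain ⟨x, hx, h⟩ := h
  refine ⟨g * x * g⁻¹, mt conj_mem_center_iff.1 hx, ?_⟩
  rw [← cj_centralizer_singleton]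
  exact isPiHallOf_map _ h

omit [Finite G] in
theorem Tor.not_dvd {p : ℕ} (hp : p.Prime) {A : Subgroup G} (h : Tor p A) : ¬ p ∣ Nat.card A :=
  fun e => h.choose_spec.2.2.1 p hp e rfl

namespace TorH

variable {p c : ℕ} (h : TorH G p c)
include h

omit [Finite G] in
theorem comm {A : Subgroup G} (hA : Tor p A) : IsMulCommutative A :=
  h.ab _ hA.choose_spec.1 A hA.choose_spec.2.1 (hA.not_dvd h.prime)

theorem index_eq {A : Subgroup G} (hA : Tor p A) : ∃ k, A.index = c * p ^ k := by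
  obtain ⟨x, hx, hA⟩ := hA
  obtain ⟨k, hk⟩ := h.size x hx
  have h1 := Nat.eq_prime_pow_of_unique_prime_dvd (p := p) (n := A.relIndex (centralizer {x}))
    index_ne_zero_of_finite fun {r} hr hd => by_contra fun e => hA.2.2 r hr e hd
  exact ⟨_, by rw [← relIndex_mul_index hA.1, h1, ← ix, hk, mul_left_comm, ← pow_add]⟩

theorem hall {A K : Subgroup G} (hA : Tor p A) {w : G} (hw : w ∉ center G) (h1 : A ≤ K)
    (h2 : K ≤ centralizer {w}) : IsPiHallOf {p}ᶜ A K := by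
  refine isPiHallOf_of_le ⟨h1.trans h2, hA.choose_spec.2.2.1, fun r hr hrp hd => hrp ?_⟩ h1 h2
  obtain ⟨k, hk⟩ := h.size w hw
  obtain ⟨j, hj⟩ := h.index_eq hA
  have h3 := ix_pos w
  rw [← relIndex_mul_index (h1.trans h2), ← ix, hk, mul_left_comm] at hj
  exact (Nat.prime_dvd_prime_iff_eq hr h.prime).1 (hr.dvd_of_dvd_pow
    (Nat.eq_of_mul_eq_mul_left (Nat.pos_of_mul_pos_right (hk ▸ h3)) hj ▸ hd.mul_right _))

theorem hall' {A : Subgroup G} (hA : Tor p A) {w : G} (hw : w ∈ A) (hwZ : w ∉ center G) :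
    IsPiHallOf {p}ᶜ A (centralizer {w}) :=
  haveI := h.comm hA
  h.hall hA hwZ (fun _ ha => mem_cent_iff.2 (mul_comm_of_mem_isMulCommutative A hw ha)) le_rfl

theorem exists_tor {v : G} (hv : ¬ p ∣ orderOf v) (hvZ : v ∉ center G) : ∃ A, Tor p A ∧ v ∈ A := by
  obtain ⟨A, hA, h1⟩ := exists_isPiHallOf_ge (π := {p}ᶜ) (h.solv v hvZ)
    (zpowers_le.2 (self_mem_cent v)) ((piNum_iff h.prime).2 (by rwa [Nat.card_zpowers]))
  exact ⟨A, ⟨v, hvZ, hA⟩, h1 (mem_zpowers v)⟩

theorem exists_pelt {A : Subgroup G} (hA : Tor p A) {t : ℕ} (ht : t.Prime) (htp : t ≠ p)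
    (hd : t ∣ (center G).index) : ∃ w ∈ A, w ∉ center G ∧ ∃ k, orderOf w = t ^ k := by
  haveI := Fact.mk ht
  obtain ⟨x, hx, hA⟩ := hA
  obtain ⟨w, -, hwZ, hw⟩ := exists_pelt_not_mem (H := ⊤) (relIndex_top_right (center G) ▸ hd)
  have h1 := dvd_relIndex_of_pelt (Z := center G) ht le_normalizer_of_normal (self_mem_cent w) hwZ hw
  have h2 := relIndex_mul_index (center_le_cent w)
  obtain ⟨k, hk⟩ := h.size x hx
  obtain ⟨j, hj⟩ := h.size w hwZ
  have h3 := ix_pos x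
  rw [← relIndex_mul_index (center_le_cent x), ← ix, ← ix, hk, hj, mul_left_comm,
    mul_left_comm _ c] at h2
  obtain ⟨v, hv, hvZ, hvt⟩ := exists_pelt_not_mem ((ht.dvd_mul.1 (Nat.eq_of_mul_eq_mul_left
    (Nat.pos_of_mul_pos_right (hk ▸ h3)) h2 ▸ h1.mul_right _)).resolve_right fun e =>
      htp ((Nat.prime_dvd_prime_iff_eq ht h.prime).1 (ht.dvd_of_dvd_pow e)))
  obtain ⟨g, -, hg⟩ := exists_le_conj_of_isPiHallOf (h.solv x hx) hA (zpowers_le.2 hv)
    ((piNum_iff h.prime).2 (Nat.card_zpowers v ▸ not_dvd_of_pelt ht h.prime htp.symm hvt))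
  refine ⟨_, mem_cj.1 (hg (mem_zpowers v)), fun e => hvZ (conj_mem_center_iff (g := g⁻¹).1
    (by rwa [inv_inv])), ?_⟩
  rwa [← inv_inv g, inv_inv g⁻¹, ← MulAut.conj_apply, MulEquiv.orderOf_eq]

theorem mem_of_fix {A : Subgroup G} (hA : Tor p A) {w u : G} (hw : w ∈ A) (hwZ : w ∉ center G)
    (hu : ¬ p ∣ orderOf u) (hn : u ∈ normalizer (A : Set G)) (hc : Commute w u) : u ∈ A :=
  le_of_isPiHallOf_of_le_normalizer' (h.hall' hA hw hwZ) (zpowers_le.2 (mem_cent_iff.2 hc))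
    ((piNum_iff h.prime).2 (by rwa [Nat.card_zpowers])) (zpowers_le.2 hn) (mem_zpowers u)

theorem not_sq {t s : ℕ} (ht : t.Prime) (htp : t ≠ p) (hd : t ∣ (center G).index) (hs : s.Prime)
    (hsp : s ≠ p) (hst : s ≠ t) (hsd : s ∣ (center G).index) : ¬ t * t ∣ c := fun e => by
  haveI := Fact.mk ht
  haveI := Fact.mk hs
  obtain ⟨S⟩ : Nonempty (Sylow t G) := inferInstance
  obtain ⟨x, hx, hxZ, h1, h2⟩ := exists_second S hd
  obtain ⟨k, hk⟩ := S.isPGroup'.exists_card_eq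
  have hpS : ¬ p ∣ Nat.card S := fun e =>
    htp ((Nat.prime_dvd_prime_iff_eq h.prime ht).1 (h.prime.dvd_of_dvd_pow (hk ▸ e))).symm
  obtain ⟨M, -, h3, h4, h5⟩ := exists_hall_norm h.prime (h.solv x hxZ)
    (isSolvable_of_isPGroup S.isPGroup') (fun g hg => mem_normalizer_of_comm (h1 g hg)) le_sup_left hpS
  have hA : Tor p (M ⊓ centralizer {x}) := ⟨x, hxZ, h4⟩
  set A := M ⊓ centralizer {x}
  haveI := h.comm hA
  have hV := isSylowIn_pCore (t := s) A
  obtain ⟨w, hw, hwZ, hws⟩ := h.exists_pelt hA hs hsp hsd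
  obtain ⟨j, hj⟩ := hV.pgroup.exists_card_eq
  obtain ⟨i, hi⟩ := h.size x hxZ
  haveI : IsMulCommutative ((pCore s A).map A.subtype) := inferInstance
  refine fpf_sq S h1 h2 ((h3.trans h5).trans (Core.normalizer_le_normalizer_map_pCore _))
    (hj ▸ Nat.Coprime.pow_left j ((Nat.coprime_primes hs ht).2 hst))
    (fun e => hwZ (e (hV.le_of_le_normalizer (isPGroup_zpowers_iff.2 hws) (zpowers_le.2 hw)
      (fun a ha => centralizer_le_normalizer _ (by
        rintro _ ⟨k, rfl⟩; exact mul_comm_of_mem_isMulCommutative A (zpow_mem hw k) ha))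
      (mem_zpowers w))))
    (fun g hg hc v hv => mul_comm_of_mem_isMulCommutative A (hV.le hv) ⟨h3 hg, mem_cent_iff.2 hc⟩)
    (fun g hg hc v hv hgv => by_contra fun hvZ => hc (mem_cent_iff.1 (h.mem_of_fix hA (hV.le hv) hvZ
      (fun e => hpS (e.trans ((S : Subgroup G).orderOf_dvd_natCard hg))) (h5 (h3 hg)) hgv.symm).2))
    (hi ▸ e.mul_right _)

section

variable {q r : ℕ} (hq : q.Prime) (hr : r.Prime) (hqp : q ≠ p) (hrp : r ≠ p)
  (hqr : q < r) (hqd : q ∣ (center G).index) (hrd : r ∣ (center G).index)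
include hq hr hqp hrp hqr hqd hrd

theorem relIndex_dvd {t : ℕ} [ht : Fact t.Prime] (htp : t ≠ p) (hd : t ∣ (center G).index)
    {A V : Subgroup G} (hA : Tor p A) (hV : IsSylowIn t V A) {R : Sylow t G} (hR : V ≤ R) :
    V.relIndex R ∣ t := by
  refine relIndex_dvd_of_not_sq hR fun e => ?_
  obtain ⟨k, hk⟩ := h.index_eq hA
  have h1 := ht.out.coprime_iff_not_dvd.2 hV.not_dvd
  have h2 := ((Nat.coprime_primes ht.out h.prime).2 htp).pow_right k
  rw [← relIndex_mul_index hV.le, hk] at e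
  replace e := (Nat.Coprime.mul_left h2 h2).dvd_of_dvd_mul_right
    ((Nat.Coprime.mul_left h1 h1).dvd_of_dvd_mul_left e)
  by_cases e' : q = t
  · exact h.not_sq ht.out htp hd hr hrp (e' ▸ hqr.ne') hrd e
  · exact h.not_sq ht.out htp hd hq hqp e' hqd e

theorem not_dvd_index {A : Subgroup G} (hA : Tor p A) {t : ℕ} (ht : t.Prime) (htp : t ≠ p) :
    ¬ t ∣ (normalizer (A : Set G)).index := fun e => by
  haveI := Fact.mk ht
  haveI := h.comm hA
  have hd := e.trans (index_dvd_of_le (center_le_normalizer _))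
  have hV := isSylowIn_pCore (t := t) A
  set V := (pCore t A).map A.subtype
  obtain ⟨R, hR⟩ := hV.pgroup.exists_le_sylow
  have h1 := le_normalizer_of_relIndex_dvd R.isPGroup' hR
    (h.relIndex_dvd hq hr hqp hrp hqr hqd hrd htp hd hA hV hR)
  obtain ⟨w, hw, hwZ, hwt⟩ := h.exists_pelt hA ht htp hd
  have hwV : w ∈ V := mem_map_pCore_of_comm hw
    (fun _ hc => mul_comm_of_mem_isMulCommutative A hw hc) hwt
  have h2 : centralizer (V : Set G) ≤ centralizer {w} := centralizer_le (by simpa using hwV)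
  have h3 : A ≤ centralizer (V : Set G) := fun a ha v hv =>
    mul_comm_of_mem_isMulCommutative A (hV.le hv) ha
  haveI := h.solv w hwZ
  obtain ⟨M, h4, h5, h6, h7⟩ := exists_hall_norm h.prime
    (Group.isSolvable_of_isSolvable_injective (inclusion_injective h2))
    (isSolvable_of_isPGroup R.isPGroup') (h1.trans (Core.normalizer_le_normalizer_centralizer _))
    (h3.trans le_sup_right) (hA.not_dvd h.prime)
  rw [eq_of_isPiHallOf_le (h.hall hA hwZ h3 h2) (le_inf h5 h3) h6.1 h6.2.1] at h7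
  rcases ht.dvd_mul.1 (relIndex_mul_index h4.1 ▸ e.trans (index_dvd_of_le h7)) with e | e
  exacts [h4.2.2 t ht htp e, not_dvd_index_of_sylow_le R le_sup_left e]

theorem step {A B : Subgroup G} (hA : Tor p A) (hB : Tor p B) (hn : ∀ g, Tech.cj g B ≠ A) {t : ℕ}
    [ht : Fact t.Prime] (htp : t ≠ p) (hd : t ∣ (center G).index) :
    t ∣ A.index ∧ (center G).relIndex ((pCore t A).map A.subtype) ≤ t := by
  haveI := h.comm hA
  have hV := isSylowIn_pCore (t := t) A
  set V := (pCore t A).map A.subtype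
  obtain ⟨R, hR⟩ := hV.pgroup.exists_le_sylow
  obtain ⟨W, hW⟩ := exists_isSylowIn t B
  obtain ⟨g, -, hg⟩ := (IsSylowIn.of_sylow_top R).exists_cj_le hW.pgroup le_top
  have h1 : V ⊓ Tech.cj g W ≤ center G := fun w hw => by_contra fun hwZ => by
    obtain ⟨k, -, hk⟩ := exists_conj_eq_of_isPiHallOf (h.solv w hwZ)
      (h.hall' (hB.cj g) ((hW.cj g).le hw.2) hwZ) (h.hall' hA (hV.le hw.1) hwZ)
    exact hn (k * g) ((cj_mul k g B).trans hk)
  refine ⟨by_contra fun e => ?_, ?_⟩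
  · obtain ⟨w, hw, hwZ, hwt⟩ := h.exists_pelt hB ht.out htp hd
    obtain ⟨k, -, hk⟩ := hW.exists_conj_mem hw (isPGroup_zpowers_iff.2 hwt)
    have h2 := (hV.trans le_top (by rwa [relIndex_top_right])).eq_of_le R.isPGroup' hR le_top
    have h3 := (conj_mem_cj (g := g)).2 hk
    exact hwZ (conj_mem_center_iff.1 (conj_mem_center_iff.1 (h1 ⟨h2 ▸ hg h3, h3⟩)))
  · have h2 := Nat.le_of_dvd ht.out.pos
      (h.relIndex_dvd hq hr hqp hrp hqr hqd hrd htp hd (hB.cj g) (hW.cj g) hg)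
    refine le_trans ?_ ((relIndex_le_of_le_right hR index_ne_zero_of_finite).trans h2)
    rw [← inf_relIndex_left V (Tech.cj g W)]
    exact relIndex_le_of_le_left h1 index_ne_zero_of_finite

theorem conj {A B : Subgroup G} (hA : Tor p A) (hB : Tor p B) : ∃ g, Tech.cj g B = A := by
  by_contra hn
  push Not at hn
  haveI := Fact.mk hq
  haveI := Fact.mk hr
  haveI := h.comm hA
  have h1 := (h.step hq hr hqp hrp hqr hqd hrd hA hB hn hrp hrd).1
  have h2 := (h.step hq hr hqp hrp hqr hqd hrd hA hB hn hqp hqd).2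
  rw [← relIndex_mul_index (le_normalizer (H := A))] at h1
  obtain ⟨g, hg, hgA, hgr⟩ := exists_pelt_not_mem ((hr.dvd_mul.1 h1).resolve_right
    (h.not_dvd_index hq hr hqp hrp hqr hqd hrd hA hr hrp))
  obtain ⟨w, hw, hwZ, hwq⟩ := h.exists_pelt hA hq hqp hqd
  have hV := isSylowIn_pCore (t := q) A
  set V := (pCore q A).map A.subtype
  have hwV : w ∈ V := mem_map_pCore_of_comm hw
    (fun _ hc => mul_comm_of_mem_isMulCommutative A hw hc) hwq
  have hgV : g ∈ normalizer (V : Set G) := Core.normalizer_le_normalizer_map_pCore _ hg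
  have h3 := commute_of_lt hr (pelt_of_dvd hr hgr (orderOf_map_dvd (QuotientGroup.mk' (center G)) g))
    (mem_map_of_mem _ hwV) (le_normalizer_map _ (mem_map_of_mem _ hgV)) (by
      rw [← relIndex_ker, QuotientGroup.ker_mk']; exact h2.trans_lt hqr)
  obtain ⟨j, hj⟩ := hV.pgroup.exists_card_eq
  obtain ⟨k, hk⟩ := hgr
  exact hgA (h.mem_of_fix hA hw hwZ (not_dvd_of_pelt hr h.prime hrp.symm ⟨k, hk⟩) hg
    (commute_of_comm_mem_center ((commute_mk_iff _).1 h3.symm) (comm_mem_of_normalizer hgV hwV)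
      (hj ▸ hk ▸ Nat.Coprime.pow _ _ ((Nat.coprime_primes hr hq).2 hqr.ne'))).symm)

end

theorem isSolvable (hd : p ∣ (center G).index) : Group.IsSolvable G := by
  by_contra hns
  obtain ⟨q, r, hq, hr, hqp, hrp, hqr, hqd, hrd⟩ := exists_two_primes hns h.prime
  haveI := Fact.mk h.prime
  obtain ⟨P⟩ : Nonempty (Sylow p G) := inferInstance
  obtain ⟨x, -, hxZ, h1, -⟩ := exists_second P hd
  obtain ⟨A, hA⟩ := exists_isPiHallOf {p}ᶜ (h.solv x hxZ)
  have h2 : ∀ v, ¬ p ∣ orderOf v → v ∈ centralizer ({x} : Set G) := fun v hv => by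
    by_cases hvZ : v ∈ center G
    · exact center_le_cent x hvZ
    obtain ⟨B, hB, hvB⟩ := h.exists_tor hv hvZ
    obtain ⟨g, rfl⟩ := h.conj hq hr hqp hrp hqr hqd hrd hB ⟨x, hxZ, hA⟩
    obtain ⟨u, hu, n, hn, rfl⟩ := exists_mul_of_coprime_index (A := normalizer (A : Set G)) (B := P)
      (Nat.coprime_of_dvd fun t ht e1 e2 => by
        by_cases e : t = p
        · exact P.not_dvd_index (e ▸ e2)
        · exact h.not_dvd_index hq hr hqp hrp hqr hqd hrd ⟨x, hxZ, hA⟩ ht e e1) g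
    rw [cj_mul, mem_normalizer_iff_cj.1 hn] at hvB
    exact (mem_normalizer_iff_cj.1 (mem_normalizer_of_comm (h1 u hu))).le (cj_mono u hA.1 hvB)
  haveI := h.solv x hxZ
  refine hns (CIT.App.isSolvable_of_normal_of_quotient (centralizer ({x} : Set G)).normalCore
    (Group.isSolvable_of_isSolvable_injective (inclusion_injective (normalCore_le _)))
    (isSolvable_of_isPGroup (p := p) fun y => ?_))
  obtain ⟨y, rfl⟩ := QuotientGroup.mk_surjective y
  obtain ⟨a, b, -, -, rfl, hab, ⟨k, hk⟩, hb⟩ := exists_p_part p y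
  refine ⟨k, ?_⟩
  rw [← QuotientGroup.mk_pow, hab.mul_pow, ← hk, pow_orderOf_eq_one, one_mul,
    QuotientGroup.eq_one_iff]
  exact pow_mem (show b ∈ (centralizer ({x} : Set G)).normalCore from fun g => h2 _ (by
    rwa [← MulAut.conj_apply, MulEquiv.orderOf_eq])) _

end TorH

end CfsgLib.Ito
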