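import Mathlib
import Cfsg.Agent.Lib.PF.Feit2

/-!
# A character whose restriction to a coherent TI Frobenius kernel is regular
-/

set_option autoImplicit false

namespace CfsgLib.Ito

open Cfsg CfsgLib.BG CfsgLib.PF CfsgLib.PF.C5

variable {G : Type*} [Group G] [Finite G] {L H : Subgroup G}

theorem isIrr_sub_one_of_coherent [IsSimpleGroup G] (hF : FrobKer L H)
    (hc : Coherent L (seqIndD H L H ⊥) (Ind ⊤ L)) (hn : (H.relIndex L + 1) ^ 2 ≤ Nat.card H)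
    {π : G → ℂ} (hπ : IsChar ⊤ π) (h1 : dot ⊤ π (cf1 ⊤) = 1) (hπ1 : π 1 = Nat.card H)
    (hres : ∀ h ∈ H, h ≠ 1 → π h = 0) : IsIrr ⊤ (π - cf1 ⊤) := by
  classical
  obtain ⟨ν, hν⟩ := hc
  obtain ⟨ε, hε, hirr⟩ := hν.exists_sign fun α hα => by
    rw [Ind_apply_one le_top, (mem_zspanOn_one.1 hα).2, mul_zero]
  have hε0 : (ε : ℂ) ≠ 0 := by rcases hε with rfl | rfl <;> simp
  have hHL := hF.normal.1
  have hn1 := hF.one_lt_relIndex
  obtain ⟨l₀, hl₀, -, hl₁⟩ := exists_lin_ne_one (nilpotent_sol hF.nilpotent) (NormalIn.bot H)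
    hF.ne_bot.symm
  set S := seqIndD H L H ⊥
  obtain ⟨X, hXdef⟩ : ∃ X : (G → ℂ) → G → ℂ, ∀ φ, X φ = (ε : ℂ) • ν φ := ⟨_, fun _ => rfl⟩
  have hS : ∀ {l}, IsIrr H l → l ≠ cf1 H → Ind L H l ∈ S := fun h h' => mem_seqIndC1.2 ⟨_, h, h', rfl⟩
  have hX : ∀ {φ}, φ ∈ S → IsIrr ⊤ (X φ) := fun h => hXdef _ ▸ hirr _ h (hF.seqIndC1_irr h)
  have hXX : ∀ {φ ψ}, φ ∈ S → ψ ∈ S → X φ = X ψ → φ = ψ := fun {φ ψ} h h' e => by
    have h2 := smul_right_injective _ hε0 ((hXdef φ).symm.trans (e.trans (hXdef ψ)))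
    refine (hF.seqIndC1_irr h).eq_of_dot_ne_zero (hF.seqIndC1_irr h') ?_
    rw [← C5.coh_dot hν h h', h2, C5.coh_dot hν h' h', (hF.seqIndC1_irr h').dot_self]
    exact one_ne_zero
  have hS₀ := hS hl₀.isIrr hl₁
  obtain ⟨χ, hχ⟩ : ∃ χ, χ = X (Ind L H l₀) := ⟨_, rfl⟩
  have hχi : IsIrr ⊤ χ := hχ ▸ hX hS₀
  have hβ : ∀ {l}, IsIrr H l → l ≠ cf1 H →
      X (Ind L H l) = l 1 • χ + (ε : ℂ) • Ind ⊤ H (l - l 1 • l₀) := fun {l} h h' => by
    rw [← Ind_Ind hHL le_top, ← hν.agree (by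
      rw [map_sub, map_smul]
      exact zspan_sub (mem_zspan (hS h h')) (zspan_smul_of_int h.isVChar.one_int (mem_zspan hS₀)))
      (by rw [Ind_apply_one hHL]; simp [hl₀.one])]
    simp only [hχ, hXdef, map_sub, map_smul]
    module
  have hK : ∀ {θ l}, θ ∈ CF (⊤ : Subgroup G) → IsIrr H l → l ≠ cf1 H →
      dot ⊤ θ (X (Ind L H l)) = l 1 * dot ⊤ θ χ + ε * (dot H θ l - l 1 * dot H θ l₀) :=
    fun {θ l} hθ h h' => by
      rw [hβ h h', dot_add_right, dot_smul_right, dot_intCast_smul_right, dot_Ind_right le_top _ hθ,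
        dot_sub_right, dot_smul_right, h.isVChar.conj_one]
  have hπl : ∀ {l}, IsIrr H l → dot H π l = l 1 := fun {l} h => by
    rw [← dot_Res_left, dot_eq_sum_on (A := {1}) (by simp) (fun x hx => by
      rw [Res_apply]
      split_ifs with h2
      exacts [hres x h2 hx, rfl]), els_singleton, Finset.sum_singleton, Res_apply_one, hπ1,
      h.isVChar.conj_one, inv_mul_cancel_left₀ (cardC_ne_zero H)]
  have hμ : ∀ {l}, IsIrr H l → l ≠ cf1 H → dot ⊤ π (X (Ind L H l)) = l 1 * dot ⊤ π χ :=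
    fun h h' => by rw [hK hπ.mem_CF h h', hπl h, hπl hl₀.isIrr, hl₀.one]; ring
  have hN : ∀ {θ}, IsIrr ⊤ θ → θ ≠ cf1 ⊤ → (∀ φ ∈ S, θ ≠ X φ) → ∃ d m : ℕ, m ≠ 0 ∧
      dot H θ (cf1 H) = d ∧ θ 1 = ((d + m * (Nat.card H - 1) : ℕ) : ℂ) := by
    intro θ hθ hθ1 hθX
    have hr := hθ.isChar.Res (le_top : H ≤ ⊤)
    obtain ⟨d, hd⟩ := hr.dot_nat (isChar_cf1 H)
    obtain ⟨m, hm⟩ := hr.dot_nat hl₀.isChar
    rw [dot_Res_left] at hd hm
    have h2 : θ 1 = d + m * (Nat.card H - 1) := by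
      rw [← Res_apply_one H θ, CF_apply_expand hr.mem_CF, ← sum_irr_sq,
        ← Finset.add_sum_erase _ _ (cf1_mem_Irr H), ← Finset.add_sum_erase _ _ (cf1_mem_Irr H),
        dot_Res_left, hd, cf1_one, mul_one, one_pow, add_sub_cancel_left, Finset.mul_sum]
      refine congrArg _ (Finset.sum_congr rfl fun l hl => ?_)
      obtain ⟨h3, h4⟩ := Finset.mem_erase.1 hl
      have h5 := hK hθ.mem_CF (mem_Irr.1 h4) h3
      rw [hθ.dot_of_ne (hX (hS (mem_Irr.1 h4) h3)) (hθX _ (hS (mem_Irr.1 h4) h3)),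
        hθ.dot_of_ne hχi (hχ ▸ hθX _ hS₀), mul_zero, zero_add, eq_comm, mul_eq_zero, sub_eq_zero,
        hm] at h5
      rw [dot_Res_left, h5.resolve_left hε0]
      ring
    refine ⟨d, m, ?_, hd, by rw [h2]; push_cast [Nat.cast_sub (Nat.card_pos (α := H))]; rfl⟩
    rintro rfl
    have h3 := hθ.inKer_iff_le_cfker.1 ((hθ.isChar.inKer_iff_dot le_top).2 (by rw [hd, h2]; simp))
    rcases (Subgroup.normalizer_eq_top_iff.1
      (top_le_iff.1 (cfker_normal hθ.mem_CF).2)).eq_bot_or_eq_top with e | e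
    · exact hF.ne_bot (le_bot_iff.1 (e ▸ h3))
    · exact hθ1 (hθ.inKer_self_iff.1 (hθ.inKer_iff_le_cfker.2 e.ge))
  have hπ' := hπ.sub_constt (isIrr_cf1 ⊤) (by rw [h1]; exact one_ne_zero)
  have hd1 : ∀ {θ}, IsIrr ⊤ θ → θ ≠ cf1 ⊤ → dot ⊤ (π - cf1 ⊤) θ = dot ⊤ π θ := fun hθ h => by
    rw [dot_sub_left, (isIrr_cf1 ⊤).dot_of_ne hθ h.symm, sub_zero]
  have hp1 : (π - cf1 ⊤ : G → ℂ) 1 = ((Nat.card H - 1 : ℕ) : ℂ) := by
    rw [Pi.sub_apply, hπ1, cf1_one, Nat.cast_sub Nat.card_pos, Nat.cast_one]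
  by_cases h0 : dot ⊤ π χ = 0
  · obtain ⟨θ, hθ, hd⟩ := exists_constt hπ'.mem_CF fun e => by
      rw [e, Pi.zero_apply, eq_comm, Nat.cast_eq_zero] at hp1
      have := hF.one_lt_card
      omega
    have hθ1 : θ ≠ cf1 ⊤ := fun e => hd (by rw [e, dot_sub_left, h1, (isIrr_cf1 ⊤).dot_self, sub_self])
    obtain ⟨d, m, hm, -, e⟩ := hN hθ hθ1 fun φ hφ e => by
      obtain ⟨l, hl, hl', rfl⟩ := mem_seqIndC1.1 hφ
      exact hd (by rw [hd1 hθ hθ1, e, hμ hl hl', h0, mul_zero])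
    have h2 := hπ'.constt_one_le hθ hd
    rw [hp1, e, Complex.natCast_re, Complex.natCast_re, Nat.cast_le] at h2
    have h3 := Nat.le_mul_of_pos_left (Nat.card H - 1) (Nat.pos_of_ne_zero hm)
    rwa [hπ'.eq_constt_of_one_eq hθ hd (by rw [hp1, e]; congr 1; omega)]
  exfalso
  obtain ⟨μ, hμ'⟩ := hπ.dot_nat hχi.isChar
  obtain ⟨δ, -, hδ⟩ := hχi.one_pos
  have hδn : δ ≤ H.relIndex L := by
    have h2 : ∑ φ ∈ S, (dot ⊤ π (X φ) * X φ 1).re ≤ Nat.card H := by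
      rw [← Finset.sum_image (f := fun θ => (dot ⊤ π θ * θ 1).re) fun _ h _ h' => hXX h h',
        ← Complex.natCast_re, ← hπ1, CF_apply_expand hπ.mem_CF, Complex.re_sum]
      refine Finset.sum_le_sum_of_subset_of_nonneg (fun θ h => ?_) fun θ h _ => ?_
      · obtain ⟨φ, hφ, rfl⟩ := Finset.mem_image.1 h
        exact mem_Irr.2 (hX hφ)
      · obtain ⟨a, ha⟩ := hπ.dot_nat (mem_Irr.1 h).isChar
        obtain ⟨b, hb⟩ := (mem_Irr.1 h).isChar.one_nat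
        rw [ha, hb, ← Nat.cast_mul, Complex.natCast_re]
        positivity
    have h3 := hF.sum_sq (NormalIn.bot L) bot_le
    have h4 : (H.relIndex L : ℝ) ^ 2 * ∑ φ ∈ S, (dot ⊤ π (X φ) * X φ 1).re =
        μ * δ * ∑ φ ∈ S, (φ 1).re ^ 2 := by
      rw [Finset.mul_sum, Finset.mul_sum]
      refine Finset.sum_congr rfl fun φ hφ => ?_
      obtain ⟨l, hl, hl', rfl⟩ := mem_seqIndC1.1 hφ
      obtain ⟨f, -, hf⟩ := hl.one_pos
      rw [hμ hl hl', hβ hl hl', Ind_apply_one hHL]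
      simp [Ind_apply_one, hf, hl₀.one, hμ', hδ]
      ring
    rw [h3, Subgroup.relIndex_bot_left] at h4
    have h5 : (1 : ℝ) ≤ μ := by
      exact_mod_cast Nat.pos_of_ne_zero (by rintro rfl; exact h0 (by simpa using hμ'))
    have h6 : ((H.relIndex L : ℝ) + 1) ^ 2 ≤ Nat.card H := by exact_mod_cast hn
    have h7 : (1 : ℝ) < H.relIndex L := by exact_mod_cast hn1
    by_contra h8
    have h9 : (H.relIndex L : ℝ) + 1 ≤ δ := by exact_mod_cast not_le.1 h8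
    generalize (H.relIndex L : ℝ) = n at *
    generalize (Nat.card H : ℝ) = a at *
    have h10 : n ^ 2 * a ≥ μ * δ * (n * (a - 1)) := h4 ▸ mul_le_mul_of_nonneg_left h2 (by positivity)
    have h11 : μ * δ ≥ n + 1 := by nlinarith
    have h12 : 0 < n * (a - 1) := by nlinarith
    nlinarith [mul_le_mul_of_nonneg_right h11 h12.le]
  have hχ1 : χ ≠ cf1 ⊤ := fun e => by
    obtain ⟨φ, hφ, hne⟩ : ∃ φ ∈ S, φ ≠ Ind L H l₀ := by
      obtain ⟨a, ha, b, hb, hab⟩ := hF.exists_two (by nlinarith)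
      by_cases h : a = Ind L H l₀
      exacts [⟨b, hb, h ▸ hab.symm⟩, ⟨a, ha, h⟩]
    obtain ⟨l, hl, hl', rfl⟩ := mem_seqIndC1.1 hφ
    have h3 : ∀ {l}, IsIrr H l → l ≠ cf1 H → dot H (cf1 (⊤ : Subgroup G)) l = 0 := fun h h' => by
      rw [← dot_Res_left, Res_cf1 le_top, (isIrr_cf1 H).dot_of_ne h h'.symm]
    have h2 := hK (isIrr_cf1 ⊤).mem_CF hl hl'
    rw [h3 hl hl', h3 hl₀.isIrr hl₁, e, (isIrr_cf1 ⊤).dot_self] at h2
    refine hne (hXX hφ hS₀ (((isIrr_cf1 ⊤).eq_of_dot_ne_zero (hX hφ) ?_).symm.trans (e.symm.trans hχ)))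
    simpa [h2] using hl.one_ne_zero
  have hd0 : ∀ {θ}, IsIrr ⊤ θ → θ ≠ cf1 ⊤ → dot ⊤ π θ ≠ 0 → dot H θ (cf1 H) = 0 := by
    intro θ hθ h h'
    obtain ⟨a, ha⟩ := ((hπ'.sub_constt hθ (by rwa [hd1 hθ h])).Res le_top).dot_nat (isChar_cf1 H)
    obtain ⟨b, hb⟩ := (hθ.isChar.Res le_top).dot_nat (isChar_cf1 H)
    rw [dot_Res_left] at ha hb
    rw [dot_sub_left, dot_sub_left, hπl (isIrr_cf1 H), ← dot_Res_left (cf1 ⊤), Res_cf1 le_top,
      (isIrr_cf1 H).dot_self, cf1_one, hb, sub_self, zero_sub, neg_eq_iff_add_eq_zero] at ha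
    have : b + a = 0 := by exact_mod_cast ha
    rw [hb, show b = 0 by omega, Nat.cast_zero]
  have hρ := hχi.isChar.mul hχi.isChar.conj
  have hρ1 : ∀ K : Subgroup G, dot K (χ * conjFun χ) (cf1 K) = dot K χ χ := fun K => by
    rw [dot_mul_left, conjFun_conjFun]
    exact dot_congr (fun _ _ => rfl) fun x hx => by simp [cf1_apply_of_mem hx]
  obtain ⟨θ, hθ, hθ1, hθ2, hθ3⟩ : ∃ θ, IsIrr ⊤ θ ∧ θ ≠ cf1 ⊤ ∧ dot ⊤ (χ * conjFun χ) θ ≠ 0 ∧
      dot H θ (cf1 H) ≠ 0 := by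
    by_contra h
    push Not at h
    have h2 : dot H χ χ = 1 := by
      rw [← hρ1, CF_expand hρ.mem_CF, dot_sum_left, Finset.sum_eq_single (cf1 ⊤) (fun θ hθ h' => by
        rw [dot_smul_left]
        exact mul_eq_zero.2 (or_iff_not_imp_left.2 (h θ (mem_Irr.1 hθ) h')))
        (fun h => absurd (cf1_mem_Irr ⊤) h), hρ1, hχi.dot_self, one_smul, ← dot_Res_left,
        Res_cf1 le_top, (isIrr_cf1 H).dot_self]
    have h3 := (hχi.isChar.Res (le_top : H ≤ ⊤)).isIrr_of_dot_self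
      (by rwa [dot_Res_left, dot_Res_right])
    obtain ⟨g, hg, hgH⟩ := SetLike.exists_of_lt (lt_of_le_of_ne hHL hF.ne_top)
    refine hF.cfJ_ne h3 (fun e => ?_) hg hgH (by
      rw [cfJ_Res (hF.normal.2 hg), cfJ_of_mem hχi.mem_CF trivial])
    have h4 := hd0 hχi hχ1 h0
    rw [← dot_Res_left, e, (isIrr_cf1 H).dot_self] at h4
    exact one_ne_zero h4
  obtain ⟨d, m, hm, hd, e⟩ := hN hθ hθ1 fun φ hφ e => by
    obtain ⟨l, hl, hl', rfl⟩ := mem_seqIndC1.1 hφ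
    exact hθ3 (hd0 hθ hθ1 (by rw [e, hμ hl hl']; exact mul_ne_zero hl.one_ne_zero h0))
  have h2 := hρ.constt_one_le hθ hθ2
  rw [e, Pi.mul_apply, hχi.isVChar.conjFun_one, hδ, ← Nat.cast_mul, Complex.natCast_re,
    Complex.natCast_re, Nat.cast_le] at h2
  have h3 := Nat.le_mul_of_pos_left (Nat.card H - 1) (Nat.pos_of_ne_zero hm)
  have h4 : d ≠ 0 := by rintro rfl; exact hθ3 (by simpa using hd)
  have h5 := Nat.mul_le_mul hδn hδn
  have h6 : Nat.card H ≤ H.relIndex L * H.relIndex L := by omega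
  nlinarith

end CfsgLib.Ito
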